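import Mathlib.LinearAlgebra.Matrix.Determinant.Basic
import Mathlib.LinearAlgebra.Multilinear.Basic
import Mathlib.Data.Matrix.Mul

/-!
# Kronecker products over `Fin m`, permutation operators and the antisymmetrizer
-/

universe u

open Matrix

namespace K442.Antisym

variable {S : Type u} [CommRing S] {m n : ℕ}

/-- The `m`-fold Kronecker product. -/
def kron (X : Fin m → Matrix (Fin n) (Fin n) S) : Matrix (Fin m → Fin n) (Fin m → Fin n) S :=
  Matrix.of fun P Q => ∏ i, X i (P i) (Q i)

theorem kron_apply (X : Fin m → Matrix (Fin n) (Fin n) S) (P Q : Fin m → Fin n) :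
    kron X P Q = ∏ i, X i (P i) (Q i) := rfl

theorem kron_one : kron (1 : Fin m → Matrix (Fin n) (Fin n) S) = 1 := by
  ext P Q
  rw [kron_apply, Matrix.one_apply]
  simp only [Pi.one_apply, Matrix.one_apply]
  by_cases h : P = Q
  · subst h; simp
  · rw [if_neg h]
    obtain ⟨i, hi⟩ := Function.ne_iff.1 h
    exact Finset.prod_eq_zero (Finset.mem_univ i) (if_neg hi)

theorem kron_mul (X Y : Fin m → Matrix (Fin n) (Fin n) S) : kron (X * Y) = kron X * kron Y := by
  ext P Q
  rw [kron_apply, Matrix.mul_apply]
  simp only [Pi.mul_apply, Matrix.mul_apply, kron_apply]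
  rw [Finset.prod_univ_sum, Fintype.piFinset_univ]
  refine Finset.sum_congr rfl fun J _ => ?_
  rw [Finset.prod_mul_distrib]

theorem kron_update_add [DecidableEq (Fin m)] (X : Fin m → Matrix (Fin n) (Fin n) S) (i : Fin m)
    (a b : Matrix (Fin n) (Fin n) S) :
    kron (Function.update X i (a + b)) = kron (Function.update X i a) + kron (Function.update X i b) := by
  ext P Q
  rw [Matrix.add_apply, kron_apply, kron_apply, kron_apply]
  have h : ∀ c : Matrix (Fin n) (Fin n) S, ∏ j, Function.update X i c j (P j) (Q j) =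
      c (P i) (Q i) * ∏ j ∈ Finset.univ \ {i}, X j (P j) (Q j) := by
    intro c
    rw [← Finset.prod_sdiff (Finset.subset_univ {i}), Finset.prod_singleton, Function.update_self,
      mul_comm]
    congr 1
    refine Finset.prod_congr rfl fun j hj => ?_
    rw [Function.update_of_ne]
    simpa using hj
  rw [h, h, h, Matrix.add_apply, add_mul]

theorem kron_update_smul [DecidableEq (Fin m)] (X : Fin m → Matrix (Fin n) (Fin n) S) (i : Fin m)
    (s : S) (a : Matrix (Fin n) (Fin n) S) :
    kron (Function.update X i (s • a)) = s • kron (Function.update X i a) := by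
  ext P Q
  rw [Matrix.smul_apply, kron_apply, kron_apply]
  have h : ∀ c : Matrix (Fin n) (Fin n) S, ∏ j, Function.update X i c j (P j) (Q j) =
      c (P i) (Q i) * ∏ j ∈ Finset.univ \ {i}, X j (P j) (Q j) := by
    intro c
    rw [← Finset.prod_sdiff (Finset.subset_univ {i}), Finset.prod_singleton, Function.update_self,
      mul_comm]
    congr 1
    refine Finset.prod_congr rfl fun j hj => ?_
    rw [Function.update_of_ne]
    simpa using hj
  rw [h, h, Matrix.smul_apply, smul_eq_mul, smul_eq_mul, mul_assoc]

variable (S m n) in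
/-- The Kronecker product as a multilinear map. -/
def kronM : MultilinearMap S (fun _ : Fin m => Matrix (Fin n) (Fin n) S)
    (Matrix (Fin m → Fin n) (Fin m → Fin n) S) where
  toFun := kron
  map_update_add' := fun X i a b => kron_update_add X i a b
  map_update_smul' := fun X i s a => kron_update_smul X i s a

theorem kronM_apply (X : Fin m → Matrix (Fin n) (Fin n) S) : kronM S m n X = kron X := rfl

theorem kron_single (P Q : Fin m → Fin n) :
    kron (fun i => Matrix.single (P i) (Q i) (1 : S)) = Matrix.single P Q 1 := by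
  ext P' Q'
  rw [kron_apply, Matrix.single_apply]
  simp only [Matrix.single_apply]
  by_cases h : P = P' ∧ Q = Q'
  · rw [if_pos h]
    refine Finset.prod_eq_one fun i _ => ?_
    rw [if_pos ⟨congrFun h.1 i, congrFun h.2 i⟩]
  · rw [if_neg h]
    have : ∃ i, ¬ (P i = P' i ∧ Q i = Q' i) := by
      by_contra h'
      push Not at h'
      exact h ⟨funext fun i => (h' i).1, funext fun i => (h' i).2⟩
    obtain ⟨i, hi⟩ := this
    exact Finset.prod_eq_zero (Finset.mem_univ i) (if_neg hi)

/-- A submodule containing the Kronecker products of a spanning set is everything. -/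
theorem eq_top_of_kron_mem (N : Submodule S (Matrix (Fin m → Fin n) (Fin m → Fin n) S)) {κ : Type*}
    (g : κ → Matrix (Fin n) (Fin n) S) (hg : Submodule.span S (Set.range g) = ⊤)
    (h : ∀ a : Fin m → κ, kron (fun i => g (a i)) ∈ N) : N = ⊤ := by
  classical
  have key : ∀ X : Fin m → Matrix (Fin n) (Fin n) S, kron X ∈ N := by
    intro X
    have h1 : ∀ i, ∃ c : κ →₀ S, (c.sum fun k s => s • g k) = X i := by
      intro i
      have : X i ∈ Submodule.span S (Set.range g) := by rw [hg]; trivial
      exact (Finsupp.mem_span_range_iff_exists_finsupp).1 this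
    choose c hc using h1
    have h2 : X = fun i => ∑ k : (c i).support, (c i k.1) • g k.1 := by
      funext i
      rw [← hc i, Finsupp.sum, ← Finset.sum_coe_sort]
    rw [h2, ← kronM_apply, MultilinearMap.map_sum]
    refine Submodule.sum_mem _ fun r _ => ?_
    rw [MultilinearMap.map_smul_univ]
    exact Submodule.smul_mem _ _ (h _)
  rw [eq_top_iff]
  intro Y _
  rw [Matrix.matrix_eq_sum_single Y]
  refine Submodule.sum_mem _ fun P _ => Submodule.sum_mem _ fun Q _ => ?_
  have : Matrix.single P Q (Y P Q) = Y P Q • Matrix.single P Q (1 : S) := by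
    rw [Matrix.smul_single, smul_eq_mul, mul_one]
  rw [this, ← kron_single]
  exact Submodule.smul_mem _ _ (key _)

variable (S n) in
/-- Permutation operators. -/
def Pm (σ : Equiv.Perm (Fin m)) : Matrix (Fin m → Fin n) (Fin m → Fin n) S :=
  Matrix.of fun P Q => if P = Q ∘ σ then 1 else 0

theorem Pm_apply (σ : Equiv.Perm (Fin m)) (P Q : Fin m → Fin n) :
    Pm S n σ P Q = if P = Q ∘ σ then 1 else 0 := rfl

theorem Pm_one : Pm S n (1 : Equiv.Perm (Fin m)) = 1 := by
  ext P Q
  rw [Pm_apply, Matrix.one_apply]
  rfl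

theorem Pm_mul (σ τ : Equiv.Perm (Fin m)) : Pm S n σ * Pm S n τ = Pm S n (τ * σ) := by
  ext P Q
  rw [Matrix.mul_apply, Finset.sum_eq_single (Q ∘ τ)]
  · rw [Pm_apply, Pm_apply, Pm_apply, if_pos rfl, mul_one]
    rfl
  · intro J _ hJ
    rw [Pm_apply, Pm_apply, if_neg hJ, mul_zero]
  · intro h; exact absurd (Finset.mem_univ _) h

/-- The symbol `ε`. -/
def eps (P : Fin n → Fin n) : S := Matrix.det (Matrix.of fun i k => if P i = k then (1 : S) else 0)

theorem eps_id : eps (S := S) (id : Fin n → Fin n) = 1 := by
  rw [eps]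
  have : (Matrix.of fun i k : Fin n => if id i = k then (1 : S) else 0) = 1 := by
    ext i k
    rw [Matrix.one_apply]
    rfl
  rw [this, Matrix.det_one]

/-- The antisymmetrizer has rank one. -/
theorem sum_sign_smul_Pm : ∑ σ : Equiv.Perm (Fin n), (Equiv.Perm.sign σ : ℤ) • Pm S n σ =
    Matrix.vecMulVec eps eps := by
  ext P Q
  rw [Matrix.sum_apply, Matrix.vecMulVec_apply, eps, eps, ← Matrix.det_transpose (M := Matrix.of fun i k => if Q i = k then (1 : S) else 0),
    ← Matrix.det_mul]
  have h1 : (Matrix.of fun i k => if P i = k then (1 : S) else 0) *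
      (Matrix.of fun i k => if Q i = k then (1 : S) else 0)ᵀ =
      Matrix.of fun i j => if P i = Q j then (1 : S) else 0 := by
    ext i j
    rw [Matrix.mul_apply, Finset.sum_eq_single (P i)]
    · simp only [Matrix.of_apply, Matrix.transpose_apply, if_true, one_mul]
      by_cases h : P i = Q j
      · rw [if_pos h, if_pos h.symm]
      · rw [if_neg h, if_neg (Ne.symm h)]
    · intro k _ hk
      simp only [Matrix.of_apply]
      rw [if_neg (Ne.symm hk), zero_mul]
    · intro h; exact absurd (Finset.mem_univ _) h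
  rw [h1, ← Matrix.det_transpose, Matrix.det_apply']
  refine Finset.sum_congr rfl fun σ _ => ?_
  rw [Matrix.smul_apply, Pm_apply, zsmul_eq_mul]
  congr 1
  simp only [Matrix.transpose_apply, Matrix.of_apply]
  by_cases h : P = Q ∘ σ
  · rw [if_pos h]
    symm
    refine Finset.prod_eq_one fun i _ => ?_
    exact if_pos (congrFun h i)
  · rw [if_neg h]
    obtain ⟨i, hi⟩ := Function.ne_iff.1 h
    symm
    exact Finset.prod_eq_zero (Finset.mem_univ i) (if_neg hi)

end K442.Antisym
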