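import Groth.Agent.Brauer.K442.TensorRep
import Mathlib.RingTheory.Finiteness.Descent
import Mathlib.RingTheory.Flat.EquationalCriterion
import Mathlib.Algebra.Module.FinitePresentation
import Mathlib.Data.Matrix.Mul

/-!
# An algebra containing a rank one element of a splitting is the endomorphism algebra of its left ideal
-/

set_option linter.unusedSectionVars false

universe u v w x

open scoped TensorProduct Matrix

namespace K442.AzTpow

open K442.TensorRep

section desc

variable {B : Type u} [CommRing B] {C : Type v} [CommRing C] [Algebra B C]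

theorem finitePresentation_of_faithfullyFlat [Module.FaithfullyFlat B C] (M : Type w) [AddCommGroup M]
    [Module B M] [Module.Finite B M] [Module.FinitePresentation C (C ⊗[B] M)] :
    Module.FinitePresentation B M := by
  obtain ⟨n, f, hf⟩ := Module.Finite.exists_fin' B M
  let K := LinearMap.ker f
  let g := f.baseChange C
  have hg : Function.Surjective g := LinearMap.lTensor_surjective C hf
  have hfg : (LinearMap.ker g).FG := Module.FinitePresentation.fg_ker g hg
  let k : C ⊗[B] K →ₗ[C] C ⊗[B] (Fin n → B) := K.subtype.baseChange C
  have hk : Function.Injective k :=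
    Module.Flat.lTensor_preserves_injective_linearMap K.subtype K.injective_subtype
  have hex : Function.Exact (K.subtype.lTensor C) (f.lTensor C) :=
    Module.Flat.lTensor_exact C (LinearMap.exact_subtype_ker_map f)
  have hr : LinearMap.range k = LinearMap.ker g := by
    ext x
    exact (hex x).symm
  have : Module.Finite C (C ⊗[B] K) := by
    have h1 : Module.Finite C (LinearMap.range k) := by
      rw [hr, Module.Finite.iff_fg]
      exact hfg
    exact Module.Finite.equiv (LinearEquiv.ofInjective k hk).symm
  have h2 : Module.Finite B K := Module.Finite.of_finite_tensorProduct_of_faithfullyFlat C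
  exact Module.finitePresentation_of_surjective f hf (Module.Finite.iff_fg.1 h2)

theorem projective_of_faithfullyFlat [Module.FaithfullyFlat B C] (M : Type w) [AddCommGroup M]
    [Module B M] [Module.Finite B M] [Module.Projective C (C ⊗[B] M)] : Module.Projective B M := by
  have : Module.FinitePresentation C (C ⊗[B] M) := Module.finitePresentation_of_projective _ _
  have h1 : Module.FinitePresentation B M := finitePresentation_of_faithfullyFlat (C := C) M
  have h2 : Module.Flat B M := Module.Flat.of_flat_tensorProduct B M C
  exact Module.Flat.projective_of_finitePresentation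

theorem bijective_of_baseChange {R : Type u} [CommRing R] {S : Type w} [CommRing S] [Algebra R S]
    [Module.FaithfullyFlat R S] {M : Type v} {N : Type x} [AddCommGroup M] [AddCommGroup N]
    [Module R M] [Module R N] (g : M →ₗ[R] N) (h : Function.Bijective (g.baseChange S)) :
    Function.Bijective g := by
  have h' : Function.Bijective (g.lTensor S) := h
  exact (Module.FaithfullyFlat.lTensor_bijective_iff_bijective R S g).1 h'

end desc

variable {R : Type u} [CommRing R] {B : Type v} [Ring B] [Algebra R B] {S : Type w} [CommRing S]
  [Algebra R S] {I : Type x} [Fintype I] [DecidableEq I] (ρ : B →ₐ[R] Matrix I I S) (s : B)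
  (i0 : I)

variable (R) in
/-- The left ideal generated by `s`. -/
abbrev E : Submodule R B := LinearMap.range (LinearMap.mulRight R s)

theorem mul_mem_E (b : B) {x : B} (hx : x ∈ E R s) : b * x ∈ E R s := by
  obtain ⟨y, rfl⟩ := hx
  exact ⟨b * y, by rw [LinearMap.mulRight_apply, LinearMap.mulRight_apply, mul_assoc]⟩

/-- The `i0`-th column. -/
def col : Matrix I I S →ₗ[S] (I → S) where
  toFun M := fun P => M P i0
  map_add' _ _ := rfl
  map_smul' _ _ := rfl

theorem col_mul (M N : Matrix I I S) : col i0 (M * N) = M *ᵥ col i0 N := rfl

/-- The map `E → S^I`. -/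
noncomputable def psi : E R s →ₗ[R] (I → S) :=
  ((col i0).restrictScalars R) ∘ₗ ρ.toLinearMap ∘ₗ (E R s).subtype

theorem psi_apply (x : E R s) : psi ρ s i0 x = col i0 (ρ x.1) := rfl

/-- Its extension. -/
noncomputable def psiS : S ⊗[R] E R s →ₗ[S] (I → S) := (psi ρ s i0).liftBaseChange S

theorem psiS_tmul (t : S) (x : E R s) : psiS ρ s i0 (t ⊗ₜ x) = t • col i0 (ρ x.1) := by
  rw [psiS, LinearMap.liftBaseChange_tmul, psi_apply]

theorem psiS_eq (z : S ⊗[R] E R s) :
    psiS ρ s i0 z = col i0 (extC (S := S) ρ ((E R s).subtype.baseChange S z)) := by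
  induction z using TensorProduct.induction_on with
  | zero => simp
  | tmul t x =>
    rw [psiS_tmul, LinearMap.baseChange_tmul, extC_tmul, map_smul]
    rfl
  | add x y hx hy => rw [map_add, map_add, map_add, map_add, hx, hy]

theorem subtype_rangeRestrict (z : S ⊗[R] B) :
    (E R s).subtype.baseChange S ((LinearMap.mulRight R s).rangeRestrict.baseChange S z) =
      z * (1 ⊗ₜ s) := by
  induction z using TensorProduct.induction_on with
  | zero => simp
  | tmul t x =>
    rw [LinearMap.baseChange_tmul, LinearMap.baseChange_tmul, Algebra.TensorProduct.tmul_mul_tmul,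
      mul_one]
    rfl
  | add x y hx hy => rw [map_add, map_add, hx, hy, add_mul]

/-- A representation on a finite projective module that becomes a matrix representation after
faithfully flat base change. -/
theorem bijective_of_rep [Module.FaithfullyFlat R S] {M : Type v} [AddCommGroup M] [Module R M]
    [Module.Finite R M] [Module.Projective R M] (g : B →ₗ[R] (M →ₗ[R] M))
    (e : S ⊗[R] M ≃ₗ[S] (I → S)) (hg : ∀ b z, e ((g b).baseChange S z) = ρ b *ᵥ e z)
    (hρ : Function.Bijective (extC (S := S) ρ)) : Function.Bijective g := by
  have hfp : Module.FinitePresentation R M := Module.finitePresentation_of_projective R _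
  have hb := Module.FinitePresentation.isBaseChange_map R M M S
  have key : ∀ z : S ⊗[R] B, e.conj (hb.equiv (g.baseChange S z)) =
      Matrix.toLin' (extC (S := S) ρ z) := by
    intro z
    induction z using TensorProduct.induction_on with
    | zero => simp
    | tmul t b =>
      rw [LinearMap.baseChange_tmul, hb.equiv_tmul, extC_tmul, map_smul, map_smul]
      congr 1
      ext1 P
      ext1
      rw [LinearMap.comp_apply, LinearMap.comp_apply, LinearEquiv.conj_apply_apply,
        Matrix.toLin'_apply]
      change e ((g b).baseChange S _) = _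
      rw [hg]
      congr 1
      exact e.apply_symm_apply _
    | add x y hx hy => rw [map_add, map_add, map_add, map_add, map_add, hx, hy]
  have h2 : Function.Bijective fun z => e.conj (hb.equiv (g.baseChange S z)) := by
    have : (fun z => e.conj (hb.equiv (g.baseChange S z))) =
        (Matrix.toLin' : Matrix I I S ≃ₗ[S] _) ∘ (extC (S := S) ρ) := funext key
    rw [this]
    exact Matrix.toLin'.bijective.comp hρ
  have h3 : Function.Bijective (g.baseChange S) := by
    constructor
    · intro x y hxy
      exact h2.1 (congrArg (fun t => e.conj (hb.equiv t)) hxy)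
    · intro y
      obtain ⟨z, hz⟩ := h2.2 (e.conj (hb.equiv y))
      exact ⟨z, hb.equiv.injective (e.conj.injective hz)⟩
  exact bijective_of_baseChange (S := S) g h3

variable {s i0} {ω η : I → S} (hs : ρ s = Matrix.vecMulVec ω η) (hω : ω i0 = 1) (hη : η i0 = 1)

include hs in
theorem extC_rangeRestrict (z : S ⊗[R] B) :
    extC (S := S) ρ ((E R s).subtype.baseChange S
      ((LinearMap.mulRight R s).rangeRestrict.baseChange S z)) =
      Matrix.vecMulVec (extC (S := S) ρ z *ᵥ ω) η := by
  rw [subtype_rangeRestrict, map_mul, extC_tmul, one_smul, hs, Matrix.mul_vecMulVec]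

include hs hη in
theorem psiS_rangeRestrict (z : S ⊗[R] B) :
    psiS ρ s i0 ((LinearMap.mulRight R s).rangeRestrict.baseChange S z) =
      extC (S := S) ρ z *ᵥ ω := by
  rw [psiS_eq, extC_rangeRestrict ρ hs]
  funext P
  change Matrix.vecMulVec _ _ P i0 = _
  rw [Matrix.vecMulVec_apply, hη, mul_one]

include hs hω hη in
theorem psiS_bijective [Module.Flat R S] (hρ : Function.Bijective (extC (S := S) ρ)) :
    Function.Bijective (psiS ρ s i0) := by
  have hsurj : Function.Surjective ((LinearMap.mulRight R s).rangeRestrict.baseChange S) :=
    LinearMap.lTensor_surjective S (LinearMap.surjective_rangeRestrict _)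
  have hinj : Function.Injective ((E R s).subtype.baseChange S) :=
    Module.Flat.lTensor_preserves_injective_linearMap (E R s).subtype (E R s).injective_subtype
  constructor
  · rw [injective_iff_map_eq_zero]
    intro z hz
    obtain ⟨y, rfl⟩ := hsurj z
    rw [psiS_rangeRestrict ρ hs hη] at hz
    apply hinj
    apply hρ.1
    rw [extC_rangeRestrict ρ hs, hz, map_zero, map_zero]
    ext P Q
    rw [Matrix.vecMulVec_apply, Pi.zero_apply, zero_mul]
    rfl
  · intro w
    obtain ⟨y, hy⟩ := hρ.2 (Matrix.vecMulVec w (Pi.single i0 1))
    refine ⟨(LinearMap.mulRight R s).rangeRestrict.baseChange S y, ?_⟩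
    rw [psiS_rangeRestrict ρ hs hη, hy]
    funext P
    rw [Matrix.mulVec, dotProduct, Finset.sum_eq_single i0]
    · rw [Matrix.vecMulVec_apply, Pi.single_eq_same, mul_one, hω, mul_one]
    · intro Q _ hQ
      rw [Matrix.vecMulVec_apply, Pi.single_eq_of_ne hQ, mul_zero, zero_mul]
    · intro h; exact absurd (Finset.mem_univ _) h

variable (s) in
/-- Left multiplication on `E`. -/
noncomputable def act : B →ₐ[R] Module.End R (E R s) where
  toFun b := (LinearMap.mulLeft R b).restrict (fun _ hx => mul_mem_E s b hx)
  map_one' := by
    ext x
    change 1 * x.1 = x.1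
    rw [one_mul]
  map_mul' a b := by
    ext x
    change a * b * x.1 = a * (b * x.1)
    rw [mul_assoc]
  map_zero' := by
    ext x
    change 0 * x.1 = 0
    rw [zero_mul]
  map_add' a b := by
    ext x
    change (a + b) * x.1 = a * x.1 + b * x.1
    rw [add_mul]
  commutes' r := by
    ext x
    change algebraMap R B r * x.1 = r • x.1
    rw [Algebra.smul_def]

theorem act_apply (b : B) (x : E R s) : (act s b x).1 = b * x.1 := rfl

variable (s) in
/-- Left multiplication on `E`, as a linear map. -/
noncomputable def actL : B →ₗ[R] (E R s →ₗ[R] E R s) where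
  toFun b := act s b
  map_add' a b := map_add (act s) a b
  map_smul' r a := map_smul (act s) r a

theorem actL_apply (b : B) : actL (R := R) s b = act s b := rfl

theorem psiS_act (b : B) (z : S ⊗[R] E R s) :
    psiS ρ s i0 ((act s b).baseChange S z) = ρ b *ᵥ psiS ρ s i0 z := by
  induction z using TensorProduct.induction_on with
  | zero => simp
  | tmul t x =>
    rw [LinearMap.baseChange_tmul, psiS_tmul, psiS_tmul, act_apply, map_mul, col_mul,
      Matrix.mulVec_smul]
  | add x y hx hy => rw [map_add, map_add, map_add, hx, hy, Matrix.mulVec_add]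

include hs hω hη in
/-- The main statement. -/
theorem main [Module.Finite R B] [Module.FaithfullyFlat R S]
    (hρ : Function.Bijective (extC (S := S) ρ)) :
    Module.Finite R (E R s) ∧ Module.Projective R (E R s) ∧
      (∀ p : PrimeSpectrum R, Module.rankAtStalk (R := R) (E R s) p = Fintype.card I) ∧
      Function.Bijective (act (R := R) s) := by
  have hfin : Module.Finite R (E R s) := Module.Finite.range _
  let eΨ : S ⊗[R] E R s ≃ₗ[S] (I → S) :=
    LinearEquiv.ofBijective _ (psiS_bijective ρ hs hω hη hρ)
  have : Module.Projective S (S ⊗[R] E R s) := Module.Projective.of_equiv eΨ.symm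
  have hproj : Module.Projective R (E R s) := projective_of_faithfullyFlat (C := S) _
  refine ⟨hfin, hproj, ?_, ?_⟩
  · intro p
    obtain ⟨q, rfl⟩ := PrimeSpectrum.comap_surjective_of_faithfullyFlat (A := R) (B := S) p
    have : Nontrivial S := by
      by_contra h
      rw [not_nontrivial_iff_subsingleton] at h
      exact q.2.ne_top (Subsingleton.elim _ _)
    rw [← Module.rankAtStalk_baseChange, Module.rankAtStalk_eq_of_equiv eΨ,
      Module.rankAtStalk_eq_finrank_of_free, Pi.natCast_apply, Module.finrank_fintype_fun_eq_card]
    rfl
  · exact bijective_of_rep ρ (actL s) eΨ (fun b z => psiS_act ρ b z) hρ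

end K442.AzTpow
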