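import Groth.Agent.Brauer.K438.PerInd

/-!
# Index and extensions of degree prime to the period
-/

set_option autoImplicit false

open scoped TensorProduct
open Module CSAGal

namespace K442.CoprimeIdx

universe u v w

open K441.Br K441.TPow K438.PerInd

/-- If `A^{⊗ n}` is split and `L/k` has degree prime to `n` then `ind A ∣ ind A_L`. -/
theorem isIndex_dvd_of_coprime {k : Type u} [Field k] {A : Type v} [Ring A] [Algebra k A]
    (hA : IsCSA k A) {n : ℕ} (hper : BrEq k (tpow k A n) k) (L : Type w) [Field L] [Algebra k L]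
    [FiniteDimensional k L] (hcop : Nat.Coprime n (finrank k L)) {d d' : ℕ}
    (hd : IsIndex k A d) (hd' : IsIndex L (L ⊗[k] A) d') : d ∣ d' := by
  have h1 := isIndex_dvd_mul hA hd L hd'
  refine Nat.Coprime.dvd_of_dvd_mul_left ?_ h1
  rw [Nat.coprime_iff_gcd_eq_one]
  by_contra hne
  obtain ⟨p, hp, hpd⟩ := Nat.exists_prime_and_dvd hne
  have h2 : p ∣ d := hpd.trans (Nat.gcd_dvd_left _ _)
  have h3 : p ∣ finrank k L := hpd.trans (Nat.gcd_dvd_right _ _)
  have h4 : p ∣ n := prime_dvd hA hd hper hp h2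
  have h5 := Nat.dvd_gcd h4 h3
  rw [hcop] at h5
  exact hp.one_lt.ne' (Nat.dvd_one.1 h5)

theorem exists_isIndex_dvd_iff {k : Type u} [Field k] {A : Type v} [Ring A] [Algebra k A]
    (hA : IsCSA k A) {n : ℕ} (hper : BrEq k (tpow k A n) k) (L : Type w) [Field L] [Algebra k L]
    [FiniteDimensional k L] (hcop : Nat.Coprime n (finrank k L)) :
    (∃ d : ℕ, IsIndex k A d ∧ d ∣ n) ↔ (∃ d' : ℕ, IsIndex L (L ⊗[k] A) d' ∧ d' ∣ n) := by
  constructor
  · rintro ⟨d, hd, hdn⟩
    obtain ⟨d', hd'⟩ := exists_isIndex (hA.baseChange L)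
    exact ⟨d', hd', (isIndex_baseChange hA hd L hd').trans hdn⟩
  · rintro ⟨d', hd', hdn⟩
    obtain ⟨d, hd⟩ := exists_isIndex hA
    exact ⟨d, hd, (isIndex_dvd_of_coprime hA hper L hcop hd hd').trans hdn⟩

end K442.CoprimeIdx
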