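import Mathlib.RingTheory.PicardGroup
import Mathlib.RingTheory.Flat.FaithfullyFlat.Basic
import Groth.Agent.Brauer.K444.AzData

/-!
# Isomorphisms between endomorphism algebras of projective modules

An algebra isomorphism `φ : End F ≃ End G` (`F`, `G` finite projective, faithful) comes from an isomorphism
`F ⊗ L ≃ G` with `L` invertible; here `L` is the module of intertwiners.
-/

universe u v w

open scoped TensorProduct

namespace K442.EndIso

variable {A : Type u} [CommRing A] {F : Type v} {G : Type w} [AddCommGroup F] [Module A F]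
  [AddCommGroup G] [Module A G]

/-- The module of intertwiners `g : F → G`, `φ(f) ∘ g = g ∘ f`. -/
def L (φ : Module.End A F ≃ₐ[A] Module.End A G) : Submodule A (F →ₗ[A] G) where
  carrier := {g | ∀ f : Module.End A F, ∀ x, φ f (g x) = g (f x)}
  zero_mem' := by
    intro f x
    simp
  add_mem' := by
    intro g g' hg hg' f x
    rw [LinearMap.add_apply, LinearMap.add_apply, map_add, hg, hg']
  smul_mem' := by
    intro c g hg f x
    rw [LinearMap.smul_apply, LinearMap.smul_apply, map_smul, hg]

theorem mem_L {φ : Module.End A F ≃ₐ[A] Module.End A G} {g : F →ₗ[A] G} :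
    g ∈ L φ ↔ ∀ f : Module.End A F, ∀ x, φ f (g x) = g (f x) := Iff.rfl

/-- The intertwiner `x ↦ φ (x ⊗ l) y`. -/
def mkL (φ : Module.End A F ≃ₐ[A] Module.End A G) (l : F →ₗ[A] A) (y : G) : F →ₗ[A] G where
  toFun x := φ (l.smulRight x) y
  map_add' x x' := by
    rw [← LinearMap.add_apply, ← map_add]
    congr 2
    ext z
    simp [smul_add]
  map_smul' c x := by
    rw [RingHom.id_apply, ← LinearMap.smul_apply, ← map_smul]
    congr 2
    ext z
    rw [LinearMap.smulRight_apply, LinearMap.smul_apply, LinearMap.smulRight_apply, smul_comm]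

@[simp] theorem mkL_apply (φ : Module.End A F ≃ₐ[A] Module.End A G) (l : F →ₗ[A] A) (y : G) (x : F) :
    mkL φ l y x = φ (l.smulRight x) y := rfl

theorem mkL_mem (φ : Module.End A F ≃ₐ[A] Module.End A G) (l : F →ₗ[A] A) (y : G) :
    mkL φ l y ∈ L φ := by
  intro f x
  rw [mkL_apply, mkL_apply, ← Module.End.mul_apply, ← map_mul]
  congr 2
  ext z
  simp

/-- For an intertwiner `g`, `mkL l (g x) = l x • g`. -/
theorem mkL_apply_of_mem {φ : Module.End A F ≃ₐ[A] Module.End A G} (l : F →ₗ[A] A) {g : F →ₗ[A] G}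
    (hg : g ∈ L φ) (x : F) : mkL φ l (g x) = l x • g := by
  ext z
  rw [mkL_apply, hg, LinearMap.smulRight_apply, map_smul, LinearMap.smul_apply]

/-- The evaluation `F ⊗ L → G`. -/
def ev (φ : Module.End A F ≃ₐ[A] Module.End A G) : F ⊗[A] L φ →ₗ[A] G :=
  TensorProduct.lift ((L φ).subtype.flip)

@[simp] theorem ev_tmul (φ : Module.End A F ≃ₐ[A] Module.End A G) (x : F) (g : L φ) :
    ev φ (x ⊗ₜ g) = g.1 x := rfl

theorem sum_smulRight {n : ℕ} {x : Fin n → F} {l : Fin n → F →ₗ[A] A}
    (h : ∀ a, ∑ i, l i a • x i = a) : ∑ i, (l i).smulRight (x i) = (1 : Module.End A F) := by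
  ext a
  rw [LinearMap.sum_apply]
  simp [h]

theorem sum_mkL {n : ℕ} {x : Fin n → F} {l : Fin n → F →ₗ[A] A} (h : ∀ a, ∑ i, l i a • x i = a)
    (φ : Module.End A F ≃ₐ[A] Module.End A G) (y : G) :
    ∑ i, mkL φ (l i) y (x i) = y := by
  simp only [mkL_apply]
  rw [← LinearMap.sum_apply, ← map_sum, sum_smulRight h, map_one, Module.End.one_apply]

theorem ev_bijective [Module.Finite A F] [Module.Projective A F]
    (φ : Module.End A F ≃ₐ[A] Module.End A G) : Function.Bijective (ev φ) := by
  obtain ⟨n, x, l, h⟩ := K444.AzData.exists_dualBasis (R := A) (P := F)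
  let ψ : G → F ⊗[A] L φ := fun y => ∑ i, x i ⊗ₜ ⟨mkL φ (l i) y, mkL_mem φ (l i) y⟩
  have hψadd : ∀ y y', ψ (y + y') = ψ y + ψ y' := by
    intro y y'
    simp only [ψ]
    rw [← Finset.sum_add_distrib]
    refine Finset.sum_congr rfl fun i _ => ?_
    rw [← TensorProduct.tmul_add]
    congr 1
    apply Subtype.ext
    ext z
    simp
  refine Function.bijective_iff_has_inverse.2 ⟨ψ, ?_, ?_⟩
  · intro t
    induction t using TensorProduct.induction_on with
    | zero =>
      rw [map_zero]
      have := hψadd 0 0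
      simpa using this
    | tmul z g =>
      rw [ev_tmul]
      simp only [ψ]
      have : ∀ i, (⟨mkL φ (l i) (g.1 z), mkL_mem φ (l i) (g.1 z)⟩ : L φ) = l i z • g := by
        intro i
        apply Subtype.ext
        exact mkL_apply_of_mem _ g.2 z
      simp only [this]
      conv_rhs => rw [← h z]
      rw [TensorProduct.sum_tmul]
      refine Finset.sum_congr rfl fun i _ => ?_
      rw [TensorProduct.tmul_smul, TensorProduct.smul_tmul']
    | add s t hs ht => rw [map_add, hψadd, hs, ht]
  · intro y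
    simp only [ψ]
    rw [map_sum]
    simp only [ev_tmul]
    exact sum_mkL h φ y

/-- `F ⊗ L ≃ G`. -/
noncomputable def evEquiv [Module.Finite A F] [Module.Projective A F]
    (φ : Module.End A F ≃ₐ[A] Module.End A G) : F ⊗[A] L φ ≃ₗ[A] G :=
  LinearEquiv.ofBijective (ev φ) (ev_bijective φ)

theorem evEquiv_tmul [Module.Finite A F] [Module.Projective A F]
    (φ : Module.End A F ≃ₐ[A] Module.End A G) (x : F) (g : L φ) :
    evEquiv φ (x ⊗ₜ g) = g.1 x := rfl

theorem evEquiv_map [Module.Finite A F] [Module.Projective A F]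
    (φ : Module.End A F ≃ₐ[A] Module.End A G) (f : Module.End A F) (t : F ⊗[A] L φ) :
    evEquiv φ (TensorProduct.map f LinearMap.id t) = φ f (evEquiv φ t) := by
  induction t using TensorProduct.induction_on with
  | zero => simp
  | tmul x g =>
    rw [TensorProduct.map_tmul, evEquiv_tmul, evEquiv_tmul, LinearMap.id_apply]
    exact (g.2 f x).symm
  | add s t hs ht => rw [map_add, map_add, map_add, map_add, hs, ht]

theorem conj_evEquiv [Module.Finite A F] [Module.Projective A F]
    (φ : Module.End A F ≃ₐ[A] Module.End A G) (f : Module.End A F) :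
    φ f = (evEquiv φ).conj (TensorProduct.map f LinearMap.id) := by
  ext y
  obtain ⟨t, rfl⟩ := (evEquiv φ).surjective y
  rw [LinearEquiv.conj_apply_apply, LinearEquiv.symm_apply_apply, evEquiv_map]

/-- An endomorphism commuting with all endomorphisms is a scalar. -/
theorem eq_smul_of_commute {n : ℕ} {y : Fin n → F} {m : Fin n → F →ₗ[A] A}
    (h1 : ∑ i, m i (y i) = 1) (u : Module.End A F) (hu : ∀ f : Module.End A F, ∀ x, u (f x) = f (u x))
    (x : F) : u x = (∑ i, m i (u (y i))) • x := by
  rw [Finset.sum_smul]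
  have : ∀ i, m i (u (y i)) • x = m i (y i) • u x := by
    intro i
    have := hu ((m i).smulRight x) (y i)
    rw [LinearMap.smulRight_apply, LinearMap.smulRight_apply, map_smul] at this
    exact this.symm
  simp only [this]
  rw [← Finset.sum_smul, h1, one_smul]

theorem comp_commute {φ : Module.End A F ≃ₐ[A] Module.End A G} {g : F →ₗ[A] G} (hg : g ∈ L φ)
    {h : G →ₗ[A] F} (hh : h ∈ L φ.symm) (f : Module.End A F) (x : F) :
    (h ∘ₗ g) (f x) = f ((h ∘ₗ g) x) := by
  rw [LinearMap.comp_apply, LinearMap.comp_apply, ← hg, ← hh, AlgEquiv.symm_apply_apply]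

/-- The partition of the identity of `F` by intertwiners. -/
theorem sum_comp_mkL [Module.Finite A G] [Module.Projective A G]
    (φ : Module.End A F ≃ₐ[A] Module.End A G)
    {n : ℕ} {y : Fin n → F} {m : Fin n → F →ₗ[A] A} (h1 : ∑ i, m i (y i) = 1) :
    ∃ (N : ℕ) (g : Fin N → L φ) (h : Fin N → L φ.symm), ∀ x : F, ∑ a, (h a).1 ((g a).1 x) = x := by
  obtain ⟨N, z, l, hz⟩ := K444.AzData.exists_dualBasis (R := A) (P := G)
  let e : Fin (n * N) ≃ Fin n × Fin N := finProdFinEquiv.symm
  refine ⟨n * N, fun a => ⟨mkL φ (m (e a).1) (z (e a).2), mkL_mem _ _ _⟩,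
    fun a => ⟨mkL φ.symm (l (e a).2) (y (e a).1), mkL_mem _ _ _⟩, fun x => ?_⟩
  simp only [mkL_apply]
  rw [Equiv.sum_comp e (fun p : Fin n × Fin N => (φ.symm ((l p.2).smulRight
    ((φ ((m p.1).smulRight x)) (z p.2)))) (y p.1)), Fintype.sum_prod_type]
  have key : ∀ (i : Fin n) (j : Fin N), (φ.symm ((l j).smulRight
      ((φ ((m i).smulRight x)) (z j)))) (y i) =
      ((m i).smulRight x) ((φ.symm ((l j).smulRight (z j))) (y i)) := by
    intro i j
    rw [← Module.End.mul_apply]
    congr 1
    apply φ.injective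
    rw [AlgEquiv.apply_symm_apply, map_mul, AlgEquiv.apply_symm_apply]
    ext w
    simp
  simp only [key]
  have : ∀ i : Fin n, ∑ j : Fin N, ((m i).smulRight x) ((φ.symm ((l j).smulRight (z j))) (y i)) =
      m i (y i) • x := by
    intro i
    rw [← map_sum, ← LinearMap.sum_apply, ← map_sum, sum_smulRight hz, map_one,
      Module.End.one_apply, LinearMap.smulRight_apply]
  simp only [this]
  rw [← Finset.sum_smul, h1, one_smul]

/-- Every composite `h ∘ g` of intertwiners is a scalar. -/
theorem exists_scalar [Module.Finite A F] [Module.Projective A F] [FaithfulSMul A F]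
    (φ : Module.End A F ≃ₐ[A] Module.End A G) :
    ∃ c : L φ.symm →ₗ[A] L φ →ₗ[A] A, ∀ (h : L φ.symm) (g : L φ) (x : F),
      h.1 (g.1 x) = c h g • x := by
  obtain ⟨n, y, m, h1⟩ := K444.AzData.exists_trace_one (R := A) (P := F)
  refine ⟨LinearMap.mk₂ A (fun h g => ∑ i, m i (h.1 (g.1 (y i)))) ?_ ?_ ?_ ?_, ?_⟩
  · intro h h' g
    rw [← Finset.sum_add_distrib]
    refine Finset.sum_congr rfl fun i _ => ?_
    rw [← map_add]; rfl
  · intro c h g
    rw [Finset.smul_sum]
    refine Finset.sum_congr rfl fun i _ => ?_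
    rw [← map_smul]; rfl
  · intro h g g'
    rw [← Finset.sum_add_distrib]
    refine Finset.sum_congr rfl fun i _ => ?_
    rw [← map_add, ← map_add]; rfl
  · intro c h g
    rw [Finset.smul_sum]
    refine Finset.sum_congr rfl fun i _ => ?_
    rw [← map_smul, ← map_smul]; rfl
  · intro h g x
    rw [LinearMap.mk₂_apply]
    exact eq_smul_of_commute h1 (h.1 ∘ₗ g.1) (comp_commute g.2 h.2) x

theorem invertible_L [Module.Finite A F] [Module.Projective A F] [FaithfulSMul A F]
    [Module.Finite A G] [Module.Projective A G] [FaithfulSMul A G]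
    (φ : Module.End A F ≃ₐ[A] Module.End A G) : Module.Invertible A (L φ) := by
  obtain ⟨n, y, m, h1⟩ := K444.AzData.exists_trace_one (R := A) (P := F)
  obtain ⟨c, hc⟩ := exists_scalar φ
  obtain ⟨c', hc'⟩ := exists_scalar φ.symm
  obtain ⟨N, g, h, hgh⟩ := sum_comp_mkL φ h1
  -- `c (h) (g)` computed from a relation
  have hsum : ∑ a, c (h a) (g a) = 1 := by
    apply FaithfulSMul.eq_of_smul_eq_smul (α := F)
    intro x
    rw [Finset.sum_smul, one_smul]
    simp only [← hc]
    exact hgh x
  have hc'2 : ∀ (g : L φ) (h : L φ.symm) (z : G), g.1 (h.1 z) = c' g h • z := by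
    intro g h z
    exact hc' g h z
  have comm1 : ∀ (g₁ g₂ : L φ) (h : L φ.symm), c h g₂ • g₁ = c' g₁ h • g₂ := by
    intro g₁ g₂ h
    apply Subtype.ext
    ext x
    change c h g₂ • g₁.1 x = c' g₁ h • g₂.1 x
    rw [← map_smul, ← hc, hc'2]
  have comm2 : ∀ (h₁ h₂ : L φ.symm) (g : L φ), c h₁ g • h₂ = c' g h₂ • h₁ := by
    intro h₁ h₂ g
    apply Subtype.ext
    ext x
    change c h₁ g • h₂.1 x = c' g h₂ • h₁.1 x
    rw [← hc, hc'2, map_smul]
  have hbij : Function.Bijective (TensorProduct.lift c) := by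
    refine Function.bijective_iff_has_inverse.2
      ⟨fun r => r • ∑ a, h a ⊗ₜ[A] g a, fun t => ?_, fun r => ?_⟩
    · have key : ∀ t, (TensorProduct.lift c) t • ∑ a, h a ⊗ₜ[A] g a = t := by
        intro t
        induction t using TensorProduct.induction_on with
        | zero => rw [map_zero, zero_smul]
        | tmul h' g' =>
          rw [TensorProduct.lift.tmul, Finset.smul_sum]
          have : ∀ a, c h' g' • (h a ⊗ₜ[A] g a) = c (h a) (g a) • (h' ⊗ₜ[A] g') := by
            intro a
            rw [TensorProduct.smul_tmul', comm2, ← TensorProduct.smul_tmul', ← TensorProduct.tmul_smul,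
              ← comm1, TensorProduct.tmul_smul]
          simp only [this]
          rw [← Finset.sum_smul, hsum, one_smul]
        | add s t hs ht => rw [map_add, add_smul, hs, ht]
      exact key t
    · change TensorProduct.lift c (r • ∑ a, h a ⊗ₜ[A] g a) = r
      rw [map_smul, map_sum]
      simp only [TensorProduct.lift.tmul]
      rw [hsum, smul_eq_mul, mul_one]
  exact Module.Invertible.right (LinearEquiv.ofBijective _ hbij)

end K442.EndIso

namespace K442.EndIso

/-- A faithfully flat module is faithful. -/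
theorem faithfulSMul_of_faithfullyFlat (A : Type u) [CommRing A] (F : Type v) [AddCommGroup F]
    [Module A F] [Module.FaithfullyFlat A F] : FaithfulSMul A F := by
  refine ⟨fun {r s} h => ?_⟩
  have h0 : LinearMap.lTensor F (LinearMap.mulLeft A (r - s)) = 0 := by
    ext x
    simp only [TensorProduct.AlgebraTensorModule.curry_apply, TensorProduct.curry_apply,
      LinearMap.coe_restrictScalars, LinearMap.lTensor_tmul, LinearMap.mulLeft_apply, mul_one,
      LinearMap.zero_apply]
    have : x ⊗ₜ[A] (r - s) = ((r - s) • x) ⊗ₜ[A] (1 : A) := by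
      rw [TensorProduct.smul_tmul, smul_eq_mul, mul_one]
    rw [this, sub_smul, h, sub_self, TensorProduct.zero_tmul]
  have h1 := (Module.FaithfullyFlat.zero_iff_lTensor_zero A F (LinearMap.mulLeft A (r - s))).2 h0
  have h2 := LinearMap.congr_fun h1 1
  rw [LinearMap.mulLeft_apply, mul_one, LinearMap.zero_apply, sub_eq_zero] at h2
  exact h2

end K442.EndIso
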