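import Groth.Agent.Brauer.K442.TraceInv
import Groth.Agent.Dix.K281.AzDescent
import Mathlib.RingTheory.MatrixAlgebra
import Mathlib.RingTheory.Flat.FaithfullyFlat.Algebra

/-!
# The reduced trace of a split-by-faithfully-flat algebra and the Goldman element
-/

universe u v w x

open scoped TensorProduct

namespace K442.Goldman

/-- Faithfully flat descent of elements. -/
lemma mem_range_of_tmul_eq {R B : Type*} [CommRing R] [CommRing B] [Algebra R B]
    [Module.FaithfullyFlat R B] (x : B) (h : (1 : B) ⊗ₜ[R] x = x ⊗ₜ[R] 1) :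
    x ∈ LinearMap.range (Algebra.linearMap R B) := by
  let D : Submodule R B := LinearMap.range (Algebra.linearMap R B)
  have h1 : (1 : B) ⊗ₜ[R] (D.mkQ x) = 0 := by
    have h2 := congrArg (LinearMap.lTensor B D.mkQ) h
    rw [LinearMap.lTensor_tmul, LinearMap.lTensor_tmul] at h2
    have h3 : D.mkQ (1 : B) = 0 := by
      rw [← LinearMap.mem_ker, Submodule.ker_mkQ]
      exact ⟨1, by simp⟩
    rw [h3, TensorProduct.tmul_zero] at h2
    exact h2
  have h4 := Module.FaithfullyFlat.tensorProduct_mk_injective (A := R) (B := B) (B ⧸ D)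
    (a₁ := D.mkQ x) (a₂ := 0) (by simpa using h1)
  rwa [← LinearMap.mem_ker, Submodule.ker_mkQ] at h4

section bc

variable {R : Type u} [CommRing R] {A : Type v} [Ring A] [Algebra R A] {S : Type w} [CommRing S]
  [Algebra R S] {n : ℕ} (j : A →ₐ[R] Matrix (Fin n) (Fin n) S)

/-- The `S`-linear extension of `j : A → M_n(S)`. -/
noncomputable def ext : S ⊗[R] A →ₐ[S] Matrix (Fin n) (Fin n) S :=
  Algebra.TensorProduct.lift (Algebra.ofId _ _) j (fun s _ => Algebra.commutes s _)

theorem ext_tmul (s : S) (a : A) : ext j (s ⊗ₜ a) = s • j a := by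
  rw [ext, Algebra.TensorProduct.lift_tmul, Algebra.ofId_apply, Algebra.smul_def]

variable {T : Type x} [CommRing T] [Algebra R T] (ι : S →ₐ[R] T)

/-- Change of rings. -/
def push : A →ₐ[R] Matrix (Fin n) (Fin n) T := (ι.mapMatrix (m := Fin n)).comp j

theorem push_apply (a : A) (p q : Fin n) : push j ι a p q = ι (j a p q) := rfl

theorem push_eq (a : A) : push j ι a = (j a).map ι := rfl

/-- Base change of a splitting is a splitting. -/
theorem ext_push_bijective (h : Function.Bijective (ext j)) : Function.Bijective (ext (push j ι)) := by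
  let := ι.toRingHom.toAlgebra
  have : IsScalarTower R S T := IsScalarTower.of_algebraMap_eq fun r => (ι.commutes r).symm
  have halg : ∀ s : S, algebraMap S T s = ι s := fun _ => rfl
  -- the comparison map
  let e1 : T ⊗[R] A ≃+ T ⊗[S] (S ⊗[R] A) := (K281.AzDescent.cancelAlg R S T A).symm.toAddEquiv
  let e2 : T ⊗[S] (S ⊗[R] A) ≃+ T ⊗[S] Matrix (Fin n) (Fin n) S :=
    (LinearEquiv.lTensor T (LinearEquiv.ofBijective (ext j).toLinearMap h)).toAddEquiv
  let e3 : T ⊗[S] Matrix (Fin n) (Fin n) S ≃+ Matrix (Fin n) (Fin n) T :=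
    (matrixEquivTensor (Fin n) S T).symm.toAddEquiv
  have key : ∀ z, ext (push j ι) z = e3 (e2 (e1 z)) := by
    intro z
    induction z using TensorProduct.induction_on with
    | zero => simp
    | tmul t a =>
      have h1 : e1 (t ⊗ₜ a) = t ⊗ₜ[S] ((1 : S) ⊗ₜ[R] a) := by
        change (K281.AzDescent.cancelAlg R S T A).symm (t ⊗ₜ a) = _
        rw [AlgEquiv.symm_apply_eq, K281.AzDescent.cancelAlg_tmul, one_smul]
      have h2 : e2 (t ⊗ₜ[S] ((1 : S) ⊗ₜ[R] a)) = t ⊗ₜ[S] (j a) := by
        change t ⊗ₜ[S] (ext j ((1 : S) ⊗ₜ[R] a)) = _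
        rw [ext_tmul, one_smul]
      have h3 : e3 (t ⊗ₜ[S] (j a)) = t • (j a).map (algebraMap S T) := by
        change (matrixEquivTensor (Fin n) S T).symm (t ⊗ₜ[S] (j a)) = _
        rw [matrixEquivTensor_apply_symm]
      rw [h1, h2, h3, ext_tmul]
      rfl
    | add x y hx hy => rw [map_add, map_add, map_add, map_add, hx, hy]
  have : (ext (push j ι) : T ⊗[R] A → Matrix (Fin n) (Fin n) T) = fun z => e3 (e2 (e1 z)) :=
    funext key
  rw [this]
  exact e3.bijective.comp (e2.bijective.comp e1.bijective)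

end bc

section trd

variable {R : Type u} [CommRing R] {A : Type v} [Ring A] [Algebra R A] {S : Type w} [CommRing S]
  [Algebra R S] {n : ℕ} (j : A →ₐ[R] Matrix (Fin n) (Fin n) S)

/-- Two splittings have the same trace. -/
theorem trace_eq {j₁ j₂ : A →ₐ[R] Matrix (Fin n) (Fin n) S} (h₁ : Function.Bijective (ext j₁))
    (h₂ : Function.Bijective (ext j₂)) (a : A) : (j₁ a).trace = (j₂ a).trace := by
  let e₁ := AlgEquiv.ofBijective (ext j₁) h₁
  let e₂ := AlgEquiv.ofBijective (ext j₂) h₂
  have h3 := TraceInv.trace_algEquiv (e₁.symm.trans e₂) (j₁ a)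
  have h4 : (e₁.symm.trans e₂) (j₁ a) = j₂ a := by
    rw [AlgEquiv.trans_apply]
    have : e₁.symm (j₁ a) = (1 : S) ⊗ₜ[R] a := by
      rw [AlgEquiv.symm_apply_eq, AlgEquiv.coe_ofBijective, ext_tmul, one_smul]
    rw [this, AlgEquiv.coe_ofBijective, ext_tmul, one_smul]
  rw [← h3, h4]

theorem exists_trd [Module.FaithfullyFlat R S] (h : Function.Bijective (ext j)) (a : A) :
    ∃ r : R, algebraMap R S r = (j a).trace := by
  have h1 := trace_eq (ext_push_bijective j (Algebra.TensorProduct.includeLeft : S →ₐ[R] S ⊗[R] S) h)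
    (ext_push_bijective j (Algebra.TensorProduct.includeRight : S →ₐ[R] S ⊗[R] S) h) a
  have h2 : ∀ ι : S →ₐ[R] S ⊗[R] S, (push j ι a).trace = ι (j a).trace := by
    intro ι
    rw [Matrix.trace, Matrix.trace, map_sum]
    rfl
  rw [h2, h2, Algebra.TensorProduct.includeLeft_apply, Algebra.TensorProduct.includeRight_apply] at h1
  obtain ⟨r, hr⟩ := mem_range_of_tmul_eq _ h1.symm
  exact ⟨r, hr⟩

/-- The reduced trace. -/
theorem exists_trd_linear [Module.FaithfullyFlat R S] (h : Function.Bijective (ext j)) :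
    ∃ t : A →ₗ[R] R, ∀ a, algebraMap R S (t a) = (j a).trace := by
  choose t ht using exists_trd j h
  have hinj : Function.Injective (algebraMap R S) := FaithfulSMul.algebraMap_injective R S
  refine ⟨{ toFun := t, map_add' := fun a b => hinj ?_, map_smul' := fun r a => hinj ?_ }, ht⟩
  · rw [map_add, ht, ht, ht, map_add, Matrix.trace_add]
  · rw [RingHom.id_apply, smul_eq_mul, map_mul, ht, ht, map_smul, Matrix.trace_smul,
      Algebra.smul_def]

/-- The Goldman element. -/
theorem exists_goldman [IsAzumaya R A] [Module.FaithfullyFlat R S] (h : Function.Bijective (ext j)) :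
    ∃ (N : ℕ) (a b : Fin N → A), ∀ x : Matrix (Fin n) (Fin n) S,
      ∑ l, j (a l) * x * j (b l) = x.trace • 1 := by
  obtain ⟨t, ht⟩ := exists_trd_linear j h
  obtain ⟨z, hz⟩ := IsAzumaya.bij (R := R) (A := A).2 ((Algebra.linearMap R A) ∘ₗ t)
  obtain ⟨N, a, b, hab⟩ := (K444.AzData.mem_range_mulLeftRight_iff _).1 ⟨z, hz⟩
  refine ⟨N, a, b, fun x => ?_⟩
  obtain ⟨y, rfl⟩ := h.2 x
  induction y using TensorProduct.induction_on with
  | zero => simp
  | tmul s c =>
    rw [ext_tmul]
    have h1 := congrArg j (hab c)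
    rw [map_sum] at h1
    simp only [map_mul] at h1
    simp only [mul_smul_comm, smul_mul_assoc]
    rw [← Finset.smul_sum, h1, Matrix.trace_smul, ← ht]
    rw [LinearMap.comp_apply, Algebra.linearMap_apply, AlgHom.commutes, smul_eq_mul, mul_smul,
      algebraMap_smul, Algebra.algebraMap_eq_smul_one]
  | add y z hy hz =>
    rw [map_add, Matrix.trace_add, add_smul, ← hy, ← hz, ← Finset.sum_add_distrib]
    refine Finset.sum_congr rfl fun l _ => ?_
    rw [mul_add, add_mul]

theorem goldman_entries {N : ℕ} {a b : Fin N → A}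
    (h : ∀ x : Matrix (Fin n) (Fin n) S, ∑ l, j (a l) * x * j (b l) = x.trace • 1)
    (p q r s : Fin n) : ∑ l, j (a l) p q * j (b l) r s = if p = s ∧ q = r then 1 else 0 := by
  have h1 := congrFun (congrFun (h (Matrix.single q r 1)) p) s
  rw [Matrix.sum_apply] at h1
  have h2 : ∀ l, (j (a l) * Matrix.single q r (1 : S) * j (b l) : Matrix (Fin n) (Fin n) S) p s =
      j (a l) p q * j (b l) r s := by
    intro l
    rw [Matrix.mul_apply, Finset.sum_eq_single r]
    · rw [Matrix.mul_single_apply_same, mul_one]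
    · intro c _ hc
      rw [Matrix.mul_single_apply_of_ne _ _ _ _ _ hc, zero_mul]
    · intro h; exact absurd (Finset.mem_univ _) h
  simp only [h2] at h1
  rw [h1, Matrix.smul_apply, Matrix.one_apply]
  by_cases hqr : q = r
  · subst hqr
    rw [Matrix.trace_single_eq_same, smul_eq_mul, one_mul]
    simp
  · rw [Matrix.trace_single_eq_of_ne _ _ _ hqr, smul_eq_mul, zero_mul, if_neg (fun h => hqr h.2)]

end trd

end K442.Goldman
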