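import Mathlib.LinearAlgebra.PiTensorProduct.Basic
import Mathlib.LinearAlgebra.Matrix.Determinant.Basic
import Mathlib.LinearAlgebra.Matrix.ToLin
import Groth.Agent.Brauer.K442.EndIso

/-!
# The line bundle of liftings of an automorphism of a matrix algebra is torsion
-/

universe u v w

open scoped TensorProduct

namespace K442.LiftLine

section PiTensor

variable (A : Type u) [CommRing A] (M : Type v) [AddCommGroup M] [Module A M]

/-- `M^{⊗(n+1)} ≃ M^{⊗n} ⊗ M`. -/
noncomputable def succEquiv (n : ℕ) : (⨂[A] _ : Fin (n + 1), M) ≃ₗ[A] (⨂[A] _ : Fin n, M) ⊗[A] M :=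
  (PiTensorProduct.reindex A (fun _ => M) (finSumFinEquiv (m := n) (n := 1)).symm) ≪≫ₗ
    (PiTensorProduct.tmulEquiv A M).symm ≪≫ₗ
    (PiTensorProduct.subsingletonEquiv (R := A) (s := fun _ : Fin 1 => M) 0).lTensor _

/-- Tensor powers of invertible modules are invertible. -/
theorem invertible_tpow [Module.Invertible A M] (n : ℕ) : Module.Invertible A (⨂[A] _ : Fin n, M) := by
  induction n with
  | zero => exact Module.Invertible.congr (PiTensorProduct.isEmptyEquiv (Fin 0)).symm
  | succ n ih => exact Module.Invertible.congr (succEquiv A M n).symm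

end PiTensor

variable {A : Type u} [CommRing A] {n : ℕ}

open K442.EndIso

variable (φ : Module.End A (Fin n → A) ≃ₐ[A] Module.End A (Fin n → A))

/-- The polarised determinant on intertwiners. -/
noncomputable def D : MultilinearMap A (fun _ : Fin n => L φ) A :=
  (Matrix.detRowAlternating (n := Fin n) (R := A)).toMultilinearMap.compLinearMap
    (fun j => (LinearMap.applyₗ (Pi.single j (1 : A))).comp (L φ).subtype)

theorem D_apply (g : Fin n → L φ) :
    D φ g = Matrix.det (Matrix.of fun i j => (g i).1 (Pi.single i 1) j) := rfl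

theorem D_const (g : L φ) : D φ (fun _ => g) = Matrix.det (LinearMap.toMatrix' g.1) := by
  rw [D_apply, ← Matrix.det_transpose]
  congr 1

theorem lift_D_surjective (hn : 0 < n) : Function.Surjective (PiTensorProduct.lift (D φ)) := by
  have : Nonempty (Fin n) := ⟨⟨0, hn⟩⟩
  have : FaithfulSMul A (Fin n → A) := by
    refine ⟨fun {r s} h => ?_⟩
    have := congrFun (h (fun _ => 1)) ⟨0, hn⟩
    simpa using this
  obtain ⟨m, y, l, h1⟩ := K444.AzData.exists_trace_one (R := A) (P := Fin n → A)
  obtain ⟨c, hc⟩ := exists_scalar φ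
  obtain ⟨N, g, h, hgh⟩ := sum_comp_mkL φ h1
  have hsum : ∑ a, c (h a) (g a) = 1 := by
    apply FaithfulSMul.eq_of_smul_eq_smul (α := Fin n → A)
    intro x
    rw [Finset.sum_smul, one_smul]
    simp only [← hc]
    exact hgh x
  have hpow : ∀ a, (c (h a) (g a)) ^ n ∈ (LinearMap.range (PiTensorProduct.lift (D φ)) : Ideal A) := by
    intro a
    have e1 : LinearMap.toMatrix' (h a).1 * LinearMap.toMatrix' (g a).1 =
        c (h a) (g a) • (1 : Matrix (Fin n) (Fin n) A) := by
      rw [← LinearMap.toMatrix'_comp]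
      have : (h a).1 ∘ₗ (g a).1 = c (h a) (g a) • LinearMap.id := by
        ext x : 1
        ext i
        rw [LinearMap.comp_apply, LinearMap.comp_apply, hc]
        rfl
      rw [this, map_smul, LinearMap.toMatrix'_id]
    have e2 := congrArg Matrix.det e1
    rw [Matrix.det_mul, Matrix.det_smul, Matrix.det_one, mul_one, Fintype.card_fin] at e2
    rw [← e2]
    apply Ideal.mul_mem_left
    refine ⟨PiTensorProduct.tprod A (fun _ => g a), ?_⟩
    rw [PiTensorProduct.lift.tprod, D_const]
  have htop : (LinearMap.range (PiTensorProduct.lift (D φ)) : Ideal A) = ⊤ := by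
    have hs : Ideal.span (Set.range fun a => c (h a) (g a)) = ⊤ := by
      rw [Ideal.eq_top_iff_one, ← hsum]
      exact Ideal.sum_mem _ fun a _ => Ideal.subset_span ⟨a, rfl⟩
    have hs2 := Ideal.span_pow_eq_top _ hs n
    rw [eq_top_iff, ← hs2, Ideal.span_le]
    rintro _ ⟨_, ⟨a, rfl⟩, rfl⟩
    exact hpow a
  exact LinearMap.range_eq_top.1 htop

/-- The tensor power of the module of intertwiners is trivial. -/
noncomputable def tpowEquiv (hn : 0 < n) : (⨂[A] _ : Fin n, L φ) ≃ₗ[A] A := by
  have : FaithfulSMul A (Fin n → A) := by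
    refine ⟨fun {r s} h => ?_⟩
    have := congrFun (h (fun _ => 1)) ⟨0, hn⟩
    simpa using this
  have := invertible_L φ
  have := invertible_tpow A (L φ) n
  exact LinearEquiv.ofBijective _ (Module.Invertible.bijective_of_surjective (lift_D_surjective φ hn))

variable (α : Matrix (Fin n) (Fin n) A ≃ₐ[A] Matrix (Fin n) (Fin n) A)

/-- The matrices `M` with `M N = α(N) M`. -/
abbrev K : Submodule A (Matrix (Fin n) (Fin n) A) :=
  LinearMap.ker (LinearMap.mul A (Matrix (Fin n) (Fin n) A) -
    (LinearMap.lcomp A (Matrix (Fin n) (Fin n) A) α.toLinearMap).comp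
      (LinearMap.mul A (Matrix (Fin n) (Fin n) A)).flip)

theorem mem_K (M : Matrix (Fin n) (Fin n) A) : M ∈ K α ↔ ∀ N, M * N = α N * M := by
  rw [K, LinearMap.mem_ker, LinearMap.sub_apply, sub_eq_zero]
  constructor
  · intro h N
    exact LinearMap.congr_fun h N
  · intro h
    ext1 N
    exact h N

/-- The transported automorphism. -/
noncomputable def phi : Module.End A (Fin n → A) ≃ₐ[A] Module.End A (Fin n → A) :=
  (Matrix.toLinAlgEquiv' (R := A) (n := Fin n)).symm.trans (α.trans Matrix.toLinAlgEquiv')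

theorem toLin'_mem (M : Matrix (Fin n) (Fin n) A) :
    Matrix.toLin' M ∈ L (phi α) ↔ M ∈ K α := by
  rw [mem_K, mem_L]
  constructor
  · intro h N
    have h1 := h (Matrix.toLin' N)
    have h2 : phi α (Matrix.toLin' N) = Matrix.toLin' (α N) := by
      change Matrix.toLin' (α (LinearMap.toMatrix' (Matrix.toLin' N))) = _
      rw [LinearMap.toMatrix'_toLin']
    rw [h2] at h1
    apply Matrix.toLin'.injective
    rw [Matrix.toLin'_mul, Matrix.toLin'_mul]
    ext1 i
    ext1
    exact (h1 _).symm
  · intro h f x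
    change Matrix.toLin' (α (LinearMap.toMatrix' f)) (Matrix.toLin' M x) = Matrix.toLin' M (f x)
    rw [← LinearMap.comp_apply, ← Matrix.toLin'_mul, ← h, Matrix.toLin'_mul, Matrix.toLin'_toMatrix',
      LinearMap.comp_apply]

/-- The comparison with intertwiners. -/
noncomputable def equivL : L (phi α) ≃ₗ[A] K α :=
  ((Matrix.toLin' (R := A) (m := Fin n) (n := Fin n)).ofSubmodule' (L (phi α))).symm ≪≫ₗ
    LinearEquiv.ofEq _ _ (by
      ext M
      rw [Submodule.mem_comap]
      exact toLin'_mem α M)

theorem invertible_K (hn : 0 < n) : Module.Invertible A (K α) := by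
  have : FaithfulSMul A (Fin n → A) := by
    refine ⟨fun {r s} h => ?_⟩
    have := congrFun (h (fun _ => 1)) ⟨0, hn⟩
    simpa using this
  have := invertible_L (phi α)
  exact Module.Invertible.congr (equivL α)

theorem nonempty_tpow_K (hn : 0 < n) : Nonempty ((⨂[A] _ : Fin n, K α) ≃ₗ[A] A) :=
  ⟨(PiTensorProduct.congr fun _ => equivL α).symm ≪≫ₗ tpowEquiv (phi α) hn⟩

end K442.LiftLine
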