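import Groth.Agent.Brauer.K441.TPow
import Groth.Agent.Brauer.K440.RedCP
import Mathlib.Algebra.QuaternionBasis
import Mathlib.LinearAlgebra.FreeModule.PID

/-!
# Central division algebras of dimension four are quaternion algebras (characteristic not two)
-/

universe u v w

open scoped Quaternion TensorProduct

namespace K442.Quat

variable {k : Type u} [Field k]

section quadratic

variable {D : Type v} [DivisionRing D] [Algebra k D]

/-- Every element of a central division algebra of dimension four is a root of a monic quadratic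
polynomial. -/
theorem exists_quadratic (hD : K441.Br.IsCSA k D) (h4 : Module.finrank k D = 4) (x : D) :
    ∃ t n : k, x * x = t • x + n • (1 : D) := by
  obtain ⟨h1, h2, h3⟩ := hD
  have hdeg : K440.RedCP.deg k D = 2 := K440.RedCP.deg_eq (by rw [h4]; norm_num)
  have hP := K440.RedCP.rcp_pow k D x
  rw [hdeg] at hP
  have h5 : Polynomial.aeval (LinearMap.mulLeft k x) (LinearMap.mulLeft k x).charpoly = 0 :=
    LinearMap.aeval_self_charpoly _
  rw [← hP, map_pow] at h5
  have h6 : ∀ P : Polynomial k, Polynomial.aeval (LinearMap.mulLeft k x) P =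
      LinearMap.mulLeft k (Polynomial.aeval x P) := by
    intro P
    exact Polynomial.aeval_algHom_apply (Algebra.lmul k D) x P
  rw [h6] at h5
  have h7 : (Polynomial.aeval x (K440.RedCP.rcp k D x)) ^ 2 = 0 := by
    have := LinearMap.congr_fun h5 1
    rw [LinearMap.zero_apply, pow_two, Module.End.mul_apply, LinearMap.mulLeft_apply,
      LinearMap.mulLeft_apply, mul_one] at this
    rw [pow_two]
    exact this
  have h8 := pow_eq_zero_iff (two_ne_zero) |>.1 h7
  have hm := K440.RedCP.rcp_monic k D x
  have hd := K440.RedCP.rcp_natDegree (k := k) x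
  rw [hdeg] at hd
  rw [Polynomial.aeval_eq_sum_range, hd, Finset.sum_range_succ, Finset.sum_range_succ,
    Finset.sum_range_one] at h8
  have hl : (K440.RedCP.rcp k D x).coeff 2 = 1 := by
    rw [← hd]; exact hm
  rw [hl, one_smul, pow_one, pow_zero, pow_two] at h8
  refine ⟨-(K440.RedCP.rcp k D x).coeff 1, -(K440.RedCP.rcp k D x).coeff 0, ?_⟩
  rw [neg_smul, neg_smul]
  have := eq_neg_of_add_eq_zero_right h8
  rw [this]
  abel

theorem exists_not_mem_range (h4 : Module.finrank k D = 4) : ∃ x : D, ∀ c : k, x ≠ algebraMap k D c := by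
  by_contra h
  push Not at h
  have h1 : Module.finrank k D ≤ 1 := by
    apply finrank_le_one (1 : D)
    intro w
    obtain ⟨c, hc⟩ := h w
    exact ⟨c, by rw [hc, Algebra.algebraMap_eq_smul_one]⟩
  omega

/-- Central division algebras of dimension `4` are quaternion algebras. -/
theorem exists_quaternion (h2 : (2 : k) ≠ 0) (hD : K441.Br.IsCSA k D)
    (h4 : Module.finrank k D = 4) :
    ∃ a b : k, Nonempty (QuaternionAlgebra k a 0 b ≃ₐ[k] D) := by
  have hD' := hD
  obtain ⟨h1, h2', h3⟩ := hD'
  obtain ⟨x, hx⟩ := exists_not_mem_range (k := k) (D := D) h4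
  obtain ⟨t, n, hxt⟩ := exists_quadratic hD h4 x
  -- complete the square
  set i : D := x - (t / 2) • (1 : D) with hi
  set a : k := n + (t / 2) * (t / 2) with ha
  have hia : i * i = a • (1 : D) := by
    rw [hi, sub_mul, mul_sub, mul_sub, hxt, smul_mul_assoc, mul_smul_comm, mul_one, one_mul,
      smul_mul_assoc, one_mul, smul_smul, ha]
    have : t = t / 2 + t / 2 := by field_simp; ring
    conv_lhs => enter [1, 1, 1]; rw [this]
    module
  have hik : ∀ c : k, i ≠ algebraMap k D c := by
    intro c hc
    apply hx (c + t / 2)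
    rw [map_add, ← hc, hi, Algebra.algebraMap_eq_smul_one]
    abel
  have hi0 : i ≠ 0 := by
    have := hik 0
    rwa [map_zero] at this
  -- an anticommuting element
  have hex : ∃ y : D, i * y - y * i ≠ 0 := by
    by_contra h
    push Not at h
    have : i ∈ Subalgebra.center k D := by
      rw [Subalgebra.mem_center_iff]
      intro y
      exact (sub_eq_zero.1 (h y)).symm
    rw [Algebra.IsCentral.center_eq_bot, Algebra.mem_bot] at this
    obtain ⟨c, hc⟩ := this
    exact hik c hc.symm
  obtain ⟨y, hy⟩ := hex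
  set j : D := i * y - y * i with hj
  have hji : j * i = - (i * j) := by
    clear_value i
    rw [hj, sub_mul, mul_sub, mul_assoc y i i, hia, ← mul_assoc i i y, hia, mul_smul_comm, mul_one,
      smul_mul_assoc, one_mul, neg_sub, mul_assoc]
  obtain ⟨t', n', hjt⟩ := exists_quadratic hD h4 j
  have ht' : t' = 0 := by
    -- conjugate by `i`
    have e1 : i * (j * j) = (j * j) * i := by
      have : j * j * i = i * (j * j) := by
        rw [mul_assoc, hji, mul_neg, ← mul_assoc, hji, neg_mul, neg_neg, mul_assoc]
      exact this.symm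
    rw [hjt, mul_add, add_mul, mul_smul_comm, smul_mul_assoc, mul_smul_comm, smul_mul_assoc,
      mul_one, one_mul, add_left_inj, hji, smul_neg] at e1
    have e2 : (2 * t') • (i * j) = 0 := by
      rw [mul_smul, two_smul]
      nth_rewrite 1 [e1]
      rw [neg_add_cancel]
    rcases smul_eq_zero.1 e2 with h | h
    · rcases mul_eq_zero.1 h with h | h
      · exact absurd h h2
      · exact h
    · rcases mul_eq_zero.1 h with h | h
      · exact absurd h hi0
      · exact absurd h hy
  rw [ht', zero_smul, zero_add] at hjt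
  let q : QuaternionAlgebra.Basis D a 0 n' :=
    { i := i
      j := j
      k := i * j
      i_mul_i := by rw [hia, zero_smul, add_zero]
      j_mul_j := hjt
      i_mul_j := rfl
      j_mul_i := by rw [hji, zero_smul, zero_sub] }
  refine ⟨a, n', ⟨AlgEquiv.ofBijective q.liftHom ?_⟩⟩
  have hinj : Function.Injective q.liftHom := by
    rw [injective_iff_map_eq_zero]
    intro z hz
    have hz' : algebraMap k D z.re + z.imI • i + z.imJ • j + z.imK • (i * j) = 0 := hz
    -- `(re + imI i) + (imJ + imK i) j = 0`
    have e1 : (algebraMap k D z.re + z.imI • i) + (algebraMap k D z.imJ + z.imK • i) * j = 0 := by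
      rw [add_mul, smul_mul_assoc, ← Algebra.smul_def, ← add_assoc]
      exact hz'
    have comm_i : ∀ c d : k, Commute i (algebraMap k D c + d • i) := by
      intro c d
      have h1 : Commute i (algebraMap k D c) := (Algebra.commutes c i).symm
      exact h1.add_right ((Commute.refl i).smul_right d)
    have hlin : ∀ c d : k, algebraMap k D c + d • i = 0 → c = 0 ∧ d = 0 := by
      intro c d h
      have hd : d = 0 := by
        by_contra hd
        apply hik (-(d⁻¹ * c))
        have : d • i = - algebraMap k D c := eq_neg_of_add_eq_zero_right h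
        have h' : i = d⁻¹ • (d • i) := by rw [smul_smul, inv_mul_cancel₀ hd, one_smul]
        rw [h', this, map_neg, map_mul, smul_neg, Algebra.smul_def]
      rw [hd, zero_smul, add_zero] at h
      exact ⟨(map_eq_zero (algebraMap k D)).1 h, hd⟩
    have e2 : algebraMap k D z.imJ + z.imK • i = 0 := by
      by_contra h
      have hjc : Commute i j := by
        have : j = (algebraMap k D z.imJ + z.imK • i)⁻¹ * (-(algebraMap k D z.re + z.imI • i)) := by
          rw [eq_inv_mul_iff_mul_eq₀ h]
          exact eq_neg_of_add_eq_zero_right e1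
        rw [this]
        exact ((comm_i _ _).inv_right₀).mul_right ((comm_i _ _).neg_right)
      have e3 : i * j = -(i * j) := by
        rw [← hji]; exact hjc
      have e4 : (2 : k) • (i * j) = 0 := by
        rw [two_smul]
        nth_rewrite 1 [e3]
        rw [neg_add_cancel]
      rcases smul_eq_zero.1 e4 with h | h
      · exact h2 h
      · rcases mul_eq_zero.1 h with h | h
        · exact hi0 h
        · exact hy h
    rw [e2, zero_mul, add_zero] at e1
    obtain ⟨r1, r2⟩ := hlin _ _ e1
    obtain ⟨r3, r4⟩ := hlin _ _ e2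
    ext
    · exact r1
    · exact r2
    · exact r3
    · exact r4
  have hfr : Module.finrank k (QuaternionAlgebra k a 0 n') = Module.finrank k D := by
    rw [h4, QuaternionAlgebra.finrank_eq_four]
  refine ⟨hinj, ?_⟩
  exact (LinearMap.injective_iff_surjective_of_finrank_eq_finrank (f := q.liftHom.toLinearMap) hfr).1
    hinj

end quadratic

/-- The quaternion algebra as a division ring. -/
@[reducible] noncomputable def divRing {a b : k}
    (h : ∀ x : QuaternionAlgebra k a 0 b, x ≠ 0 → IsUnit x) : DivisionRing (QuaternionAlgebra k a 0 b) :=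
  DivisionRing.ofIsUnitOrEqZero fun x => by
    by_cases hx : x = 0
    · exact Or.inr hx
    · exact Or.inl (h x hx)

theorem index_two_of_matrix {A : Type v} [Ring A] [Algebra k A] (hA : K441.Br.IsCSA k A)
    {a b : k} {m : ℕ} (hm : 0 < m) (hq : ∀ x : QuaternionAlgebra k a 0 b, x ≠ 0 → IsUnit x)
    (e : A ≃ₐ[k] Matrix (Fin m) (Fin m) (QuaternionAlgebra k a 0 b)) : CSAGal.IsIndex k A 2 := by
  have hAQ : K441.Br.BrEq k A (QuaternionAlgebra k a 0 b) := K441.Br.BrEq.of_matrix hm.ne' e
  obtain ⟨n, D, iD, iA, hn, hD, ⟨e'⟩⟩ := hA.exists_div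
  let := divRing hq
  have hAD : K441.Br.BrEq k A D := K441.Br.BrEq.of_matrix hn e'
  obtain ⟨f⟩ := K441.Br.BrEq.div_unique hD (hAD.symm.trans hAQ)
  refine ⟨two_pos, n, D, iD, iA, Nat.pos_of_ne_zero hn, ?_, ⟨e'⟩⟩
  rw [f.toLinearEquiv.finrank_eq, QuaternionAlgebra.finrank_eq_four]
  norm_num

theorem period_two_of_matrix {A : Type v} [Ring A] [Algebra k A] (hA : K441.Br.IsCSA k A)
    {a b : k} {m : ℕ} (hm : 0 < m) (hq : ∀ x : QuaternionAlgebra k a 0 b, x ≠ 0 → IsUnit x)
    (e : A ≃ₐ[k] Matrix (Fin m) (Fin m) (QuaternionAlgebra k a 0 b)) : CSAGal.IsPeriod k A 2 := by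
  have hAQ : K441.Br.BrEq k A (QuaternionAlgebra k a 0 b) := K441.Br.BrEq.of_matrix hm.ne' e
  have hQ : K441.Br.IsCSA k (QuaternionAlgebra k a 0 b) := hA.of_brEq hAQ
  rw [K441.TPow.isPeriod_iff hA]
  refine ⟨two_pos, ?_, ?_⟩
  · have h1 : K441.Br.BrEq k (QuaternionAlgebra k a 0 b ⊗[k] QuaternionAlgebra k a 0 b) k :=
      (K441.Br.BrEq.tensor_left (K441.Br.BrEq.of_algEquiv QuaternionAlgebra.starAe)).trans
        (K441.Br.BrEq.mul_op hQ)
    have h2 : K441.Br.BrEq k (CSAGal.tpow k A 2) (A ⊗[k] A) :=
      (K441.TPow.brEq_tpow_succ 1).trans ((K441.TPow.brEq_tpow_one).tensor_right)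
    exact h2.trans ((hAQ.tensor hAQ).trans h1)
  · intro e' he' he2 hbr
    obtain rfl : e' = 1 := by omega
    have h1 : K441.Br.BrEq k (QuaternionAlgebra k a 0 b) k :=
      hAQ.symm.trans (K441.TPow.brEq_tpow_one.symm.trans hbr)
    let := divRing hq
    obtain ⟨f⟩ := K441.Br.BrEq.div_unique hQ h1
    have := f.toLinearEquiv.finrank_eq
    rw [QuaternionAlgebra.finrank_eq_four, Module.finrank_self] at this
    omega

end K442.Quat
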