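import Mathlib.Algebra.Azumaya.Defs
import Mathlib.RingTheory.Flat.LocallyFree
import Mathlib.RingTheory.Flat.FaithfullyFlat.Algebra
import Mathlib.RingTheory.Flat.Localization
import Mathlib.RingTheory.Etale.Basic
import Mathlib.RingTheory.Spectrum.Prime.Topology
import Mathlib.LinearAlgebra.Matrix.ToLin
import Mathlib.LinearAlgebra.Dimension.Constructions
import Mathlib.RingTheory.TensorProduct.Free

/-!
# A faithfully flat splitting of an Azumaya algebra of constant rank from local splittings
-/

set_option linter.unusedSectionVars false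

universe u v w

open scoped TensorProduct

namespace K442.SplitCover

/-- Finite product of flat algebras that jointly cover. -/
lemma faithfullyFlat_pi {κ : Type u} [Finite κ] (B : Type u) [CommRing B] (L : κ → Type u)
    [∀ k, CommRing (L k)] [∀ k, Algebra B (L k)] [∀ k, Module.Flat B (L k)]
    (h : ∀ q : PrimeSpectrum B, ∃ k, q ∈ Set.range (PrimeSpectrum.comap (algebraMap B (L k)))) :
    Module.FaithfullyFlat B (∀ k, L k) := by
  have : Module.Flat B (∀ k, L k) := by
    classical
    cases nonempty_fintype κ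
    exact Module.Flat.of_linearEquiv (DFinsupp.linearEquivFunOnFintype (R := B) (M := L)).symm
  refine Module.FaithfullyFlat.of_comap_surjective fun q => ?_
  obtain ⟨k, y, hy⟩ := h q
  refine ⟨PrimeSpectrum.comap (Pi.evalRingHom L k) y, ?_⟩
  rw [← hy, ← PrimeSpectrum.comap_comp_apply]
  rfl

section pi

variable {R : Type u} [CommRing R] {A : Type v} [Ring A] [Algebra R A] {κ : Type w} [Fintype κ]
  [DecidableEq κ]
  (L : κ → Type u) [∀ k, CommRing (L k)] [∀ k, Algebra R (L k)] {n : ℕ}
  (φ : ∀ k, (L k ⊗[R] A) ≃ₐ[L k] Matrix (Fin n) (Fin n) (L k))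

/-- The map from `A` to the matrices over the product. -/
noncomputable def toMat : A →ₐ[R] Matrix (Fin n) (Fin n) (∀ k, L k) where
  toFun a := Matrix.of fun p q k => φ k (1 ⊗ₜ a) p q
  map_one' := by
    ext p q k
    rw [Matrix.of_apply]
    have : φ k (1 ⊗ₜ 1) = 1 := map_one _
    rw [this, Matrix.one_apply, Matrix.one_apply]
    split_ifs <;> rfl
  map_mul' a b := by
    ext p q k
    rw [Matrix.of_apply, Matrix.mul_apply]
    have : (1 : L k) ⊗ₜ[R] (a * b) = (1 ⊗ₜ a) * (1 ⊗ₜ b) := by
      rw [Algebra.TensorProduct.tmul_mul_tmul, one_mul]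
    rw [this, map_mul, Matrix.mul_apply, Finset.sum_apply]
    rfl
  map_zero' := by
    ext p q k
    rw [Matrix.of_apply, TensorProduct.tmul_zero, map_zero]
    rfl
  map_add' a b := by
    ext p q k
    rw [Matrix.of_apply, TensorProduct.tmul_add, map_add]
    rfl
  commutes' r := by
    ext p q k
    rw [Matrix.of_apply]
    have : (1 : L k) ⊗ₜ[R] (algebraMap R A r) = algebraMap (L k) (L k ⊗[R] A) (algebraMap R (L k) r) := by
      rw [Algebra.TensorProduct.algebraMap_apply, Algebra.algebraMap_self, RingHom.id_apply,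
        Algebra.algebraMap_eq_smul_one, ← TensorProduct.smul_tmul, ← Algebra.algebraMap_eq_smul_one]
    rw [this, AlgEquiv.commutes, Matrix.algebraMap_matrix_apply, Matrix.algebraMap_matrix_apply]
    split_ifs <;> rfl

theorem toMat_apply (a : A) (p q : Fin n) (k : κ) : toMat L φ a p q k = φ k (1 ⊗ₜ a) p q := rfl

/-- The map from the base change. -/
noncomputable def lmap : (∀ k, L k) ⊗[R] A →ₐ[∀ k, L k] Matrix (Fin n) (Fin n) (∀ k, L k) :=
  Algebra.TensorProduct.lift (Algebra.ofId _ _) (toMat L φ)
    (fun s _ => Algebra.commutes s _)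

theorem lmap_tmul (s : ∀ k, L k) (a : A) : lmap L φ (s ⊗ₜ a) = s • toMat L φ a := by
  rw [lmap, Algebra.TensorProduct.lift_tmul, Algebra.ofId_apply, Algebra.smul_def]

theorem lmap_map (k : κ) (z : L k ⊗[R] A) (p q : Fin n) :
    lmap L φ (TensorProduct.map (LinearMap.single R L k) LinearMap.id z) p q =
      Pi.single k (φ k z p q) := by
  induction z using TensorProduct.induction_on with
  | zero => simp
  | tmul l a =>
    rw [TensorProduct.map_tmul, lmap_tmul, LinearMap.id_apply, Matrix.smul_apply]
    have h1 : l ⊗ₜ[R] a = l • ((1 : L k) ⊗ₜ[R] a) := by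
      rw [TensorProduct.smul_tmul', smul_eq_mul, mul_one]
    rw [h1, map_smul, Matrix.smul_apply]
    ext k'
    rw [smul_eq_mul, Pi.mul_apply, toMat_apply]
    by_cases h : k' = k
    · subst h
      rw [Pi.single_eq_same]
      change (Pi.single k' l : ∀ k, L k) k' * _ = _
      rw [Pi.single_eq_same, smul_eq_mul]
    · rw [Pi.single_eq_of_ne h]
      change (Pi.single k l : ∀ k, L k) k' * _ = _
      rw [Pi.single_eq_of_ne h, zero_mul]
  | add x y hx hy =>
    rw [map_add, map_add, Matrix.add_apply, hx, hy, map_add, Matrix.add_apply, Pi.single_add]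

theorem lmap_surjective : Function.Surjective (lmap L φ) := by
  intro X
  refine ⟨∑ k, TensorProduct.map (LinearMap.single R L k) LinearMap.id
    ((φ k).symm (Matrix.of fun p q => X p q k)), ?_⟩
  rw [map_sum]
  refine Matrix.ext fun p q => ?_
  rw [Matrix.sum_apply]
  simp only [lmap_map, AlgEquiv.apply_symm_apply, Matrix.of_apply]
  exact Finset.univ_sum_single (X p q)

end pi

section rank

/-- The size of a splitting is determined by the rank. -/
theorem size_eq {R : Type u} [CommRing R] {A : Type v} [Ring A] [Algebra R A] [Module.Finite R A]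
    [Module.Projective R A] {n : ℕ}
    (hrk : ∀ p : PrimeSpectrum R, Module.rankAtStalk (R := R) A p = n ^ 2)
    {R' : Type w} [CommRing R'] [Nontrivial R'] [Algebra R R'] {r : ℕ}
    (e : (R' ⊗[R] A) ≃ₐ[R'] Matrix (Fin r) (Fin r) R') : r = n := by
  obtain ⟨q⟩ : Nonempty (PrimeSpectrum R') := inferInstance
  have h1 := Module.rankAtStalk_baseChange (R := R) (M := A) q
  rw [hrk, Module.rankAtStalk_eq_of_equiv e.toLinearEquiv, Module.rankAtStalk_eq_finrank_of_free,
    Pi.natCast_apply, Module.finrank_matrix, Module.finrank_self] at h1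
  simp only [Fintype.card_fin, mul_one, Nat.cast_id] at h1
  rw [← pow_two] at h1
  exact Nat.pow_left_injective two_ne_zero h1

theorem exists_size {R : Type u} [CommRing R] {A : Type v} [Ring A] [Algebra R A] [Module.Finite R A]
    [Module.Projective R A] {n : ℕ}
    (hrk : ∀ p : PrimeSpectrum R, Module.rankAtStalk (R := R) A p = n ^ 2)
    {R' : Type w} [CommRing R'] [Algebra R R'] {r : ℕ}
    (e : (R' ⊗[R] A) ≃ₐ[R'] Matrix (Fin r) (Fin r) R') :
    Nonempty ((R' ⊗[R] A) ≃ₐ[R'] Matrix (Fin n) (Fin n) R') := by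
  rcases subsingleton_or_nontrivial R' with h | h
  · have h1 : Subsingleton (R' ⊗[R] A) := by
      have : Subsingleton (Matrix (Fin r) (Fin r) R') := inferInstance
      exact e.injective.subsingleton
    exact ⟨{ toFun := fun _ => 0
             invFun := fun _ => 0
             left_inv := fun _ => Subsingleton.elim _ _
             right_inv := fun _ => Subsingleton.elim _ _
             map_mul' := fun _ _ => Subsingleton.elim _ _
             map_add' := fun _ _ => Subsingleton.elim _ _
             commutes' := fun _ => Subsingleton.elim _ _ }⟩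
  · obtain rfl := size_eq hrk e
    exact ⟨e⟩

end rank

/-- Local splittings of an Azumaya algebra of constant rank give a global faithfully flat one. -/
theorem exists_split (R : Type u) [CommRing R] (A : Type u) [Ring A] [Algebra R A] [Module.Finite R A]
    [Module.Projective R A] (n : ℕ)
    (hrk : ∀ p : PrimeSpectrum R, Module.rankAtStalk (R := R) A p = n ^ 2)
    (hloc : ∀ (p : Ideal R) [p.IsPrime], ∃ f : R, f ∉ p ∧ ∃ (R' : Type u) (_ : CommRing R')
      (_ : Algebra R R') (_ : Algebra (Localization.Away f) R')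
      (_ : IsScalarTower R (Localization.Away f) R'),
      Module.Finite (Localization.Away f) R' ∧ Algebra.Etale (Localization.Away f) R' ∧
        Module.FaithfullyFlat (Localization.Away f) R' ∧
        ∃ r : ℕ, 1 ≤ r ∧ Nonempty ((R' ⊗[R] A) ≃ₐ[R'] Matrix (Fin r) (Fin r) R')) :
    ∃ (S : Type u) (_ : CommRing S) (_ : Algebra R S), Module.FaithfullyFlat R S ∧
      Nonempty ((S ⊗[R] A) ≃ₐ[S] Matrix (Fin n) (Fin n) S) := by
  classical
  choose f hf R' i₁ i₂ i₃ i₄ hfin het hff r hr e using fun p : PrimeSpectrum R => hloc p.asIdeal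
  obtain ⟨t, ht⟩ := isCompact_univ.elim_finite_subcover
    (fun p : PrimeSpectrum R => (PrimeSpectrum.basicOpen (f p) : Set (PrimeSpectrum R)))
    (fun p => (PrimeSpectrum.basicOpen (f p)).isOpen)
    (fun p _ => Set.mem_iUnion.2 ⟨p, hf p⟩)
  let L : t → Type u := fun k => R' k.1
  let : ∀ k, CommRing (L k) := fun k => i₁ k.1
  let : ∀ k, Algebra R (L k) := fun k => i₂ k.1
  have hflat : ∀ k, Module.Flat R (L k) := by
    intro k
    let := i₁ k.1
    let := i₂ k.1
    let := i₃ k.1
    have := i₄ k.1
    have : Module.FaithfullyFlat (Localization.Away (f k.1)) (R' k.1) := hff k.1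
    have : Module.Flat R (Localization.Away (f k.1)) :=
      IsLocalization.flat _ (Submonoid.powers (f k.1))
    exact Module.Flat.trans R (Localization.Away (f k.1)) (R' k.1)
  have hS : Module.FaithfullyFlat R (∀ k, L k) := by
    refine faithfullyFlat_pi R L fun q => ?_
    obtain ⟨p, hp, hq⟩ := Set.mem_iUnion₂.1 (ht (Set.mem_univ q))
    refine ⟨⟨p, hp⟩, ?_⟩
    let := i₁ p
    let := i₂ p
    let := i₃ p
    have := i₄ p
    have : Module.FaithfullyFlat (Localization.Away (f p)) (R' p) := hff p
    have h1 : q ∈ Set.range (PrimeSpectrum.comap (algebraMap R (Localization.Away (f p)))) := by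
      rw [PrimeSpectrum.localization_away_comap_range (Localization.Away (f p)) (f p)]
      exact hq
    obtain ⟨q₁, rfl⟩ := h1
    obtain ⟨q₂, rfl⟩ := PrimeSpectrum.comap_surjective_of_faithfullyFlat
      (A := Localization.Away (f p)) (B := R' p) q₁
    refine ⟨q₂, ?_⟩
    rw [← PrimeSpectrum.comap_comp_apply, ← IsScalarTower.algebraMap_eq]
  have hφ : ∀ k : t, Nonempty ((L k ⊗[R] A) ≃ₐ[L k] Matrix (Fin n) (Fin n) (L k)) := by
    intro k
    exact exists_size hrk (e k.1).some
  let φ := fun k => (hφ k).some
  refine ⟨∀ k, L k, inferInstance, inferInstance, hS, ⟨AlgEquiv.ofBijective (lmap L φ) ?_⟩⟩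
  have hsurj := lmap_surjective L φ
  refine Module.bijective_of_surjective_of_rankAtStalk_eq (φ := (lmap L φ).toLinearMap) hsurj ?_
  intro m hm
  have : Nontrivial (∀ k, L k) := by
    by_contra h
    rw [not_nontrivial_iff_subsingleton] at h
    exact hm.ne_top (Subsingleton.elim _ _)
  rw [Module.rankAtStalk_baseChange, hrk, Module.rankAtStalk_eq_finrank_of_free,
    Pi.natCast_apply, Module.finrank_matrix, Module.finrank_self]
  simp [pow_two]

end K442.SplitCover
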