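import Groth.Agent.Brauer.K442.Goldman
import Groth.Agent.Brauer.K442.Antisym
import Mathlib.RingTheory.PiTensorProduct
import Mathlib.RingTheory.Flat.LocallyFree

/-!
# The representation of a tensor power of a split algebra and its antisymmetrizer
-/

set_option linter.unusedSectionVars false

universe u v w x

open scoped TensorProduct

namespace K442.TensorRep

open K442.Goldman K442.Antisym

section extC

variable {R : Type u} [CommRing R] {S : Type w} [CommRing S] [Algebra R S]
  {B : Type v} [Ring B] [Algebra R B] {C : Type x} [Ring C] [Algebra S C] [Algebra R C]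
  [IsScalarTower R S C]

/-- The `S`-linear extension. -/
noncomputable def extC (f : B →ₐ[R] C) : S ⊗[R] B →ₐ[S] C :=
  Algebra.TensorProduct.lift (Algebra.ofId _ _) f (fun s _ => Algebra.commutes s _)

theorem extC_tmul (f : B →ₐ[R] C) (s : S) (b : B) : extC f (s ⊗ₜ b) = s • f b := by
  rw [extC, Algebra.TensorProduct.lift_tmul, Algebra.ofId_apply, Algebra.smul_def]

end extC

variable {R : Type u} [CommRing R] {A : Type v} [Ring A] [Algebra R A] {S : Type w} [CommRing S]
  [Algebra R S] {m n : ℕ} (j : A →ₐ[R] Matrix (Fin n) (Fin n) S)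

variable (m) in
/-- The multilinear map. -/
noncomputable def rhoM : MultilinearMap R (fun _ : Fin m => A)
    (Matrix (Fin m → Fin n) (Fin m → Fin n) S) :=
  ((kronM S m n).restrictScalars R).compLinearMap (fun _ => j.toLinearMap)

theorem rhoM_apply (a : Fin m → A) : rhoM m j a = kron (fun i => j (a i)) := rfl

variable (m) in
/-- The representation of the tensor power. -/
noncomputable def rho : (⨂[R] _ : Fin m, A) →ₐ[R] Matrix (Fin m → Fin n) (Fin m → Fin n) S :=
  PiTensorProduct.liftAlgHom (rhoM m j)
    (by
      rw [rhoM_apply]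
      simp only [Pi.one_apply, map_one]
      exact kron_one)
    (fun a b => by
      rw [rhoM_apply, rhoM_apply, rhoM_apply]
      simp only [Pi.mul_apply, map_mul]
      exact kron_mul (fun i => j (a i)) (fun i => j (b i)))

theorem rho_tprod (a : Fin m → A) :
    rho m j (PiTensorProduct.tprod R a) = kron (fun i => j (a i)) := by
  rw [rho, PiTensorProduct.liftAlgHom_apply, PiTensorProduct.lift.tprod, rhoM_apply]

theorem span_range_eq_top (h : Function.Surjective (ext j)) :
    Submodule.span S (Set.range j) = ⊤ := by
  rw [eq_top_iff]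
  intro X _
  obtain ⟨z, rfl⟩ := h X
  induction z using TensorProduct.induction_on with
  | zero => rw [map_zero]; exact Submodule.zero_mem _
  | tmul s a =>
    rw [ext_tmul]
    exact Submodule.smul_mem _ _ (Submodule.subset_span ⟨a, rfl⟩)
  | add x y hx hy => rw [map_add]; exact Submodule.add_mem _ (hx trivial) (hy trivial)

theorem extC_rho_surjective (h : Function.Surjective (ext j)) :
    Function.Surjective (extC (S := S) (rho m j)) := by
  have h1 := eq_top_of_kron_mem (m := m) (LinearMap.range (extC (S := S) (rho m j)).toLinearMap) j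
    (span_range_eq_top j h) (fun a => ⟨1 ⊗ₜ PiTensorProduct.tprod R a, by
      rw [AlgHom.toLinearMap_apply, extC_tmul, one_smul, rho_tprod]⟩)
  exact LinearMap.range_eq_top.1 h1

section rank

variable (R A)

theorem finite_tpow [Module.Finite R A] (m : ℕ) : Module.Finite R (⨂[R] _ : Fin m, A) := by
  induction m with
  | zero => exact Module.Finite.equiv (PiTensorProduct.isEmptyEquiv (Fin 0)).symm
  | succ m ih => exact Module.Finite.equiv (LiftLine.succEquiv R A m).symm

theorem projective_tpow [Module.Projective R A] (m : ℕ) :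
    Module.Projective R (⨂[R] _ : Fin m, A) := by
  induction m with
  | zero => exact Module.Projective.of_equiv (PiTensorProduct.isEmptyEquiv (Fin 0)).symm
  | succ m ih => exact Module.Projective.of_equiv (LiftLine.succEquiv R A m).symm

theorem rank_tpow [Module.Finite R A] [Module.Projective R A] {d : ℕ} (p : PrimeSpectrum R)
    (hd : Module.rankAtStalk (R := R) A p = d) (m : ℕ) :
    Module.rankAtStalk (R := R) (⨂[R] _ : Fin m, A) p = d ^ m := by
  induction m with
  | zero =>
    have : Nontrivial R := by
      by_contra h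
      rw [not_nontrivial_iff_subsingleton] at h
      exact p.2.ne_top (Subsingleton.elim _ _)
    rw [Module.rankAtStalk_eq_of_equiv (PiTensorProduct.isEmptyEquiv (Fin 0)),
      Module.rankAtStalk_self, Pi.one_apply, pow_zero]
  | succ m ih =>
    have := finite_tpow R A m
    have := projective_tpow R A m
    rw [Module.rankAtStalk_eq_of_equiv (LiftLine.succEquiv R A m), Module.rankAtStalk_tensorProduct,
      Pi.mul_apply, ih, hd, pow_succ]

end rank

theorem extC_rho_bijective [Module.Finite R A] [Module.Projective R A]
    (hrk : ∀ p : PrimeSpectrum R, Module.rankAtStalk (R := R) A p = n ^ 2)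
    (h : Function.Surjective (ext j)) :
    Function.Bijective (extC (S := S) (rho m j)) := by
  have := finite_tpow R A m
  have := projective_tpow R A m
  refine Module.bijective_of_surjective_of_rankAtStalk_eq (φ := (extC (S := S) (rho m j)).toLinearMap)
    (extC_rho_surjective j h) ?_
  intro M hM
  have : Nontrivial S := by
    by_contra h
    rw [not_nontrivial_iff_subsingleton] at h
    exact hM.ne_top (Subsingleton.elim _ _)
  rw [Module.rankAtStalk_baseChange, rank_tpow R A _ (hrk _), Module.rankAtStalk_eq_finrank_of_free,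
    Pi.natCast_apply, Module.finrank_matrix, Module.finrank_self]
  simp only [Fintype.card_pi, Fintype.card_fin, Finset.prod_const, Finset.card_univ, mul_one,
    Nat.cast_id]
  rw [← pow_mul, ← pow_add, two_mul]

section perm

variable {N : ℕ} {a b : Fin N → A}
    (h : ∀ x : Matrix (Fin n) (Fin n) S, ∑ l, j (a l) * x * j (b l) = x.trace • 1)

include h in
theorem exists_swap (i k : Fin m) (hik : i ≠ k) :
    ∃ c : ⨂[R] _ : Fin m, A, rho m j c = Pm S n (Equiv.swap i k) := by
  refine ⟨∑ l, PiTensorProduct.tprod R
    (Function.update (Function.update (1 : Fin m → A) i (a l)) k (b l)), ?_⟩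
  rw [map_sum]
  ext P Q
  rw [Matrix.sum_apply]
  simp only [rho_tprod, kron_apply]
  have h1 : ∀ l, ∏ r, j (Function.update (Function.update (1 : Fin m → A) i (a l)) k (b l) r)
      (P r) (Q r) = (j (a l) (P i) (Q i) * j (b l) (P k) (Q k)) *
        ∏ r ∈ (Finset.univ.erase i).erase k, (1 : Matrix (Fin n) (Fin n) S) (P r) (Q r) := by
    intro l
    rw [← Finset.mul_prod_erase Finset.univ _ (Finset.mem_univ i),
      ← Finset.mul_prod_erase (Finset.univ.erase i) _
        (Finset.mem_erase.2 ⟨hik.symm, Finset.mem_univ k⟩),
      Function.update_of_ne hik, Function.update_self, Function.update_self, ← mul_assoc]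
    congr 1
    refine Finset.prod_congr rfl fun r hr => ?_
    rw [Finset.mem_erase, Finset.mem_erase] at hr
    rw [Function.update_of_ne hr.1, Function.update_of_ne hr.2.1, Pi.one_apply, map_one]
  simp only [h1]
  rw [← Finset.sum_mul, goldman_entries j h, Pm_apply]
  by_cases hP : P = Q ∘ Equiv.swap i k
  · rw [if_pos hP]
    have hi : P i = Q k := by rw [hP, Function.comp_apply, Equiv.swap_apply_left]
    have hk : Q i = P k := by rw [hP, Function.comp_apply, Equiv.swap_apply_right]
    rw [if_pos ⟨hi, hk⟩, one_mul]
    refine Finset.prod_eq_one fun r hr => ?_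
    rw [Finset.mem_erase, Finset.mem_erase] at hr
    rw [Matrix.one_apply, if_pos]
    rw [hP, Function.comp_apply, Equiv.swap_apply_of_ne_of_ne hr.2.1 hr.1]
  · rw [if_neg hP]
    by_cases h2 : P i = Q k ∧ Q i = P k
    · rw [if_pos h2, one_mul]
      obtain ⟨r, hr⟩ := Function.ne_iff.1 hP
      have hri : r ≠ i := by
        rintro rfl
        apply hr
        rw [Function.comp_apply, Equiv.swap_apply_left, h2.1]
      have hrk : r ≠ k := by
        rintro rfl
        apply hr
        rw [Function.comp_apply, Equiv.swap_apply_right, h2.2]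
      refine Finset.prod_eq_zero (i := r) (by simp [hri, hrk]) ?_
      rw [Matrix.one_apply, if_neg]
      rwa [Function.comp_apply, Equiv.swap_apply_of_ne_of_ne hri hrk] at hr
    · rw [if_neg h2, zero_mul]

include h in
theorem exists_perm (σ : Equiv.Perm (Fin m)) :
    ∃ c : ⨂[R] _ : Fin m, A, rho m j c = Pm S n σ := by
  induction σ using Equiv.Perm.swap_induction_on with
  | one => exact ⟨1, by rw [map_one, Pm_one]⟩
  | swap_mul σ i k hik ih =>
    obtain ⟨c, hc⟩ := ih
    obtain ⟨d, hd⟩ := exists_swap (m := m) j h i k hik
    exact ⟨c * d, by rw [map_mul, hc, hd, Pm_mul]⟩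

end perm

/-- The antisymmetrizer. -/
theorem exists_antisym [IsAzumaya R A] [Module.FaithfullyFlat R S] (h : Function.Bijective (ext j)) :
    ∃ c : ⨂[R] _ : Fin n, A, rho n j c = Matrix.vecMulVec eps eps := by
  obtain ⟨N, a, b, hab⟩ := exists_goldman j h
  choose c hc using fun σ : Equiv.Perm (Fin n) => exists_perm (m := n) j hab σ
  refine ⟨∑ σ : Equiv.Perm (Fin n), (Equiv.Perm.sign σ : ℤ) • c σ, ?_⟩
  rw [map_sum, ← sum_sign_smul_Pm]
  refine Finset.sum_congr rfl fun σ _ => ?_
  rw [map_zsmul, hc]

end K442.TensorRep
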