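import Groth.Agent.Brauer.K442.LiftLine
import Mathlib.LinearAlgebra.Matrix.Trace

/-!
# The trace is invariant under automorphisms of a matrix algebra over a commutative ring
-/

universe u v w

open scoped TensorProduct

namespace K442.TraceInv

variable {A : Type u} [CommRing A] {n : ℕ}

open K442.EndIso K442.LiftLine

/-- Matrices exhibiting an automorphism of a matrix algebra as "locally inner". -/
theorem exists_inner_data (hn : 0 < n)
    (α : Matrix (Fin n) (Fin n) A ≃ₐ[A] Matrix (Fin n) (Fin n) A) :
    ∃ (N : ℕ) (G H : Fin N → Matrix (Fin n) (Fin n) A) (C : Fin N → A),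
      (∀ a M, α M * G a = G a * M) ∧ (∀ a, H a * G a = C a • 1) ∧ (∀ a, G a * H a = C a • 1) ∧
        ∑ a, C a = 1 := by
  have : Nonempty (Fin n) := ⟨⟨0, hn⟩⟩
  have hinj : ∀ c d : A, c • (1 : Matrix (Fin n) (Fin n) A) = d • 1 → c = d := by
    intro c d h
    have := congrFun (congrFun h ⟨0, hn⟩) ⟨0, hn⟩
    simpa using this
  have : FaithfulSMul A (Fin n → A) := by
    refine ⟨fun {r s} h => ?_⟩
    have := congrFun (h (fun _ => 1)) ⟨0, hn⟩
    simpa using this
  obtain ⟨m, y, l, h1⟩ := K444.AzData.exists_trace_one (R := A) (P := Fin n → A)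
  obtain ⟨c, hc⟩ := exists_scalar (phi α)
  obtain ⟨c', hc'⟩ := exists_scalar (phi α).symm
  obtain ⟨N, g, h, hgh⟩ := sum_comp_mkL (phi α) h1
  set G : Fin N → Matrix (Fin n) (Fin n) A := fun a => LinearMap.toMatrix' (g a).1 with hG
  set H : Fin N → Matrix (Fin n) (Fin n) A := fun a => LinearMap.toMatrix' (h a).1 with hH
  set C : Fin N → Fin N → A := fun b a => c (h b) (g a) with hC
  set C' : Fin N → Fin N → A := fun a b => c' (g a) (h b) with hC'
  have hsum : ∑ a, C a a = 1 := by
    apply FaithfulSMul.eq_of_smul_eq_smul (α := Fin n → A)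
    intro x
    rw [Finset.sum_smul, one_smul]
    simp only [hC, ← hc]
    exact hgh x
  have hHG : ∀ b a, H b * G a = C b a • 1 := by
    intro b a
    rw [hH, hG, ← LinearMap.toMatrix'_comp]
    have : (h b).1 ∘ₗ (g a).1 = C b a • LinearMap.id := by
      ext x : 1
      ext i
      rw [LinearMap.comp_apply, LinearMap.comp_apply, hc]
      rfl
    rw [this, map_smul, LinearMap.toMatrix'_id]
  have hGH : ∀ a b, G a * H b = C' a b • 1 := by
    intro a b
    rw [hH, hG, ← LinearMap.toMatrix'_comp]
    have : (g a).1 ∘ₗ (h b).1 = C' a b • LinearMap.id := by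
      ext x : 1
      ext i
      rw [LinearMap.comp_apply, LinearMap.comp_apply]
      have := hc' (g a) (h b) (LinearMap.single A (fun _ => A) x 1)
      rw [this]
      rfl
    rw [this, map_smul, LinearMap.toMatrix'_id]
  have e1 : ∀ a b e d, C' a b * C e d = C b d * C e a := by
    intro a b e d
    apply hinj
    have h2 : H e * (G a * H b) * G d = H e * G a * (H b * G d) := by
      simp only [mul_assoc]
    rw [hGH, hHG, hHG, mul_smul_comm, mul_one, smul_mul_assoc, hHG, smul_mul_assoc, one_mul,
      smul_smul, smul_smul] at h2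
    rw [h2, mul_comm]
  have e2 : ∀ a b, C' a b = (∑ d, C' d d) * C b a := by
    intro a b
    have : ∀ d, C' a b * C d d = C' d d * C b a := by
      intro d
      rw [e1, e1 d d b a, mul_comm]
    rw [Finset.sum_mul]
    simp only [← this]
    rw [← Finset.mul_sum, hsum, mul_one]
  set κ := ∑ d, C' d d with hκ
  have e3 : ∀ a, (κ - 1) * (C a a) ^ 2 = 0 := by
    intro a
    have := e1 a a a a
    rw [e2 a a] at this
    rw [sub_mul, one_mul, pow_two, ← mul_assoc, this, sub_self]
  have e4 : κ = 1 := by
    have hs : Ideal.span (Set.range fun a => C a a) = ⊤ := by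
      rw [Ideal.eq_top_iff_one, ← hsum]
      exact Ideal.sum_mem _ fun a _ => Ideal.subset_span ⟨a, rfl⟩
    have hs2 := Ideal.span_pow_eq_top _ hs 2
    have h3 : ∀ x ∈ Ideal.span ((fun x => x ^ 2) '' (Set.range fun a => C a a)), (κ - 1) * x = 0 := by
      intro x hx
      induction hx using Submodule.span_induction with
      | mem x hx =>
        obtain ⟨_, ⟨a, rfl⟩, rfl⟩ := hx
        exact e3 a
      | zero => rw [mul_zero]
      | add x y _ _ hx hy => rw [mul_add, hx, hy, add_zero]
      | smul r x _ hx => rw [smul_eq_mul, mul_left_comm, hx, mul_zero]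
    have := h3 1 (by rw [hs2]; trivial)
    rw [mul_one, sub_eq_zero] at this
    exact this
  refine ⟨N, G, H, fun a => C a a, ?_, fun a => hHG a a, ?_, hsum⟩
  · intro a M
    have := (g a).2 (Matrix.toLin' M)
    have h2 : phi α (Matrix.toLin' M) = Matrix.toLin' (α M) := by
      change Matrix.toLin' (α (LinearMap.toMatrix' (Matrix.toLin' M))) = _
      rw [LinearMap.toMatrix'_toLin']
    rw [h2] at this
    apply Matrix.toLin'.injective
    rw [Matrix.toLin'_mul, Matrix.toLin'_mul, hG, Matrix.toLin'_toMatrix']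
    ext1 i
    ext1
    exact this _
  · intro a
    rw [hGH, e2, e4, one_mul]

/-- The trace is invariant under algebra automorphisms. -/
theorem trace_algEquiv (α : Matrix (Fin n) (Fin n) A ≃ₐ[A] Matrix (Fin n) (Fin n) A)
    (M : Matrix (Fin n) (Fin n) A) : (α M).trace = M.trace := by
  rcases Nat.eq_zero_or_pos n with rfl | hn
  · rw [Subsingleton.elim (α M) M]
  obtain ⟨N, G, H, C, h1, h2, h3, h4⟩ := exists_inner_data hn α
  have e1 : α M = ∑ a, α M * (G a * H a) := by
    simp only [h3]
    rw [← Finset.mul_sum, ← Finset.sum_smul, h4, one_smul, mul_one]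
  have e2 : ∀ a, (α M * (G a * H a)).trace = (M * (H a * G a)).trace := by
    intro a
    rw [← mul_assoc, h1, Matrix.trace_mul_comm, ← mul_assoc, ← mul_assoc, Matrix.trace_mul_comm,
      ← mul_assoc]
  rw [e1, Matrix.trace_sum]
  simp only [e2]
  rw [← Matrix.trace_sum]
  simp only [h2]
  rw [← Finset.mul_sum, ← Finset.sum_smul, h4, one_smul, mul_one]

end K442.TraceInv
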